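import Cfsg.Agent.H651.Two.Row
import Cfsg.Agent.H653.Spor.Mathieu
import Cfsg.Agent.H678.DG.Mathieu
import Cfsg.Agent.H852.IMMathieu

/-!
# The Mathieu groups: two characters of degree divisible by `p`
-/

set_option autoImplicit false

open Cfsg Subgroup

namespace Cfsg.Agent.H651.Two.Mathieu

open Cfsg.Agent.H653.Sieve Cfsg.Agent.Characters.Core Cfsg.Agent.H596.OneFacts

universe u

/-- `M₁₁`: all degrees. -/
theorem deg_m11 {S : Type u} [Group S] [Finite S] (h : Cfsg.IsM11 S) (i : Fin 10) :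
    ∃ χ : IrrCharacter S, charDegree (χ : S → ℂ) = H590.MElevenDeg.deg10 i := by
  obtain ⟨e, he⟩ := H590.MElevenDeg.exists_equiv h
  exact ⟨e i, by rw [H670.PSing.charDegree_eq_of (he i)]⟩

/-- **The row `M₁₁`.** -/
theorem two_m11 {S : Type u} [Group S] (h : Cfsg.Spor.IsoM11 S) {p : ℕ} [hp : Fact p.Prime]
    (hd : p ∣ Nat.card S) : TwoOr p S := by
  have h' := UGT.End.MEleven.isM11 h
  have : Finite S := Nat.finite_of_card_ne_zero (by rw [h'.2]; norm_num)
  have h0 := prime_mem hp.out (L := [(11, 1), (5, 1), (3, 2), (2, 4)]) (by norm_num) (N := 7920)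
    (by decide +kernel) (h'.2 ▸ hd)
  simp only [List.map_cons, List.map_nil, List.mem_cons, List.not_mem_nil, or_false] at h0
  have key : ∀ i j : Fin 10, p ∣ H590.MElevenDeg.deg10 i → p ∣ H590.MElevenDeg.deg10 j →
      H590.MElevenDeg.deg10 i ≠ H590.MElevenDeg.deg10 j → TwoOr p S := fun i j h1 h2 h3 =>
    .inl (two_of_degs (deg_m11 h' i) (deg_m11 h' j) h1 h2 h3)
  have dec : ∀ p ∈ [11, 5, 2], ∃ i j : Fin 10, p ∣ H590.MElevenDeg.deg10 i ∧ p ∣ H590.MElevenDeg.deg10 j ∧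
      H590.MElevenDeg.deg10 i ≠ H590.MElevenDeg.deg10 j := by decide +kernel
  have dec' : p ∈ [11, 5, 2] → TwoOr p S := fun h => by
    obtain ⟨i, j, h1, h2, h3⟩ := dec p h
    exact key i j h1 h2 h3
  rcases h0 with rfl | rfl | rfl | rfl
  · exact dec' (by simp)
  · exact dec' (by simp)
  · exact .inr (.inr ⟨rfl, .inl h'⟩)
  · exact dec' (by simp)

/-- `M₁₂`: the degrees 11 and 55. -/
theorem deg_m12 [Finite Spor.M12] : (∃ χ : IrrCharacter Spor.M12, charDegree (χ : Spor.M12 → ℂ) = 11) ∧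
    ∃ χ : IrrCharacter Spor.M12, charDegree (χ : Spor.M12 → ℂ) = 55 := by
  have hinv : ∀ g ∈ Spor.M12, ∀ x ∈ (Spor.squareDodecad : Set GolayPt), g x ∈ (Spor.squareDodecad : Set GolayPt) :=
    fun g hg x hx => Cfsg.Agent.CoThreeStd.M12.smul_mem' hg hx
  let _ := H852.IMMathieu.actOn Spor.M12 (Spor.squareDodecad : Set GolayPt) hinv
  have h5 := H852.IMMathieu.trans_on Spor.M12 (Spor.squareDodecad : Set GolayPt) hinv 5 (by
    intro x y hx hy
    obtain ⟨g, hg, -⟩ := Cfsg.Agent.S0384.result _ H852.IMMathieu.dod_mem x y hx hy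
    exact ⟨((g : M24) : Equiv.Perm GolayPt), ⟨(g : M24).2, g.2⟩, hg⟩)
  have hn : Nat.card (Spor.squareDodecad : Set GolayPt) = 12 := by
    rw [Nat.card_coe_set_eq, Set.ncard_coe_finset, H852.IMMathieu.card_dod H852.IMMathieu.dod_mem]
  have h4 : MulAction.IsMultiplyPretransitive Spor.M12 (Spor.squareDodecad : Set GolayPt) 4 :=
    MulAction.isMultiplyPretransitive_of_le (n := 5) (by norm_num) (by
      rw [hn]; norm_num)
  have h2 : MulAction.IsMultiplyPretransitive Spor.M12 (Spor.squareDodecad : Set GolayPt) 2 :=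
    MulAction.isMultiplyPretransitive_of_le (n := 5) (by norm_num) (by
      rw [hn]; norm_num)
  have h1 : MulAction.IsMultiplyPretransitive Spor.M12 (Spor.squareDodecad : Set GolayPt) 1 :=
    MulAction.isMultiplyPretransitive_of_le (n := 2) (by norm_num) (by rw [hn]; norm_num)
  have ht : MulAction.IsPretransitive Spor.M12 (Spor.squareDodecad : Set GolayPt) :=
    MulAction.is_one_pretransitive_iff.1 h1
  have := Fintype.ofFinite Spor.M12
  obtain ⟨⟨χ, hχ⟩, -⟩ := H852.IMPerm.four (G := Spor.M12) (Spor.squareDodecad : Set GolayPt) (by rw [hn]; norm_num)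
  have h6 := (Cfsg.Agent.S0157.result (G := Spor.M12) (Spor.squareDodecad : Set GolayPt) (by rw [hn]; norm_num)).2 h2
  refine ⟨⟨⟨_, h6⟩, ?_⟩, ⟨χ, ?_⟩⟩
  · refine H670.PSing.charDegree_eq_of ?_
    have h3 : Nat.card (MulAction.fixedBy (Spor.squareDodecad : Set GolayPt) (1 : Spor.M12)) = 12 := by
      rw [MulAction.fixedBy_one_eq_univ, Nat.card_univ, hn]
    show ((Nat.card (MulAction.fixedBy (Spor.squareDodecad : Set GolayPt) (1 : Spor.M12)) : ℕ) : ℂ) - 1 = _
    rw [h3]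
    norm_num
  · refine H670.PSing.charDegree_eq_of ?_
    rw [hχ, hn]

/-- **The row `M₁₂`.** -/
theorem two_m12 {S : Type u} [Group S] (h : Cfsg.Spor.IsoM12 S) {p : ℕ} [hp : Fact p.Prime]
    (hd : p ∣ Nat.card S) : TwoOr p S := by
  classical
  refine twoOr_of h hd fun hd => ?_
  have hs : IsSimpleGroup Spor.M12 := CpAutTThree.MTwelve.simple
  have hc : Nat.card Spor.M12 = 95040 := CpAutTThree.MTwelve.card
  have : Finite Spor.M12 := Nat.finite_of_card_ne_zero (by rw [hc]; norm_num)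
  have := Fintype.ofFinite Spor.M12
  have := finite_irr (G := Spor.M12)
  have := Fintype.ofFinite (IrrCharacter Spor.M12)
  have h0 := prime_mem hp.out (L := [(11, 1), (5, 1), (3, 3), (2, 6)]) (by norm_num) (N := 95040)
    (by decide +kernel) (hc ▸ hd)
  simp only [List.map_cons, List.map_nil, List.mem_cons, List.not_mem_nil, or_false] at h0
  obtain ⟨C, t, hdeg, ho, ht2, ht1, hst⟩ := H417.DegMTwelve.exists_ctx hc
    (fun P => Cfsg.Agent.MTwelve.SylowEleven.centralizer_sylow11 hc P)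
    (fun P => Cfsg.Agent.MTwelve.SylowEleven.card_normalizer_sylow11 hc P)
  have hcd : ∀ ψ : IrrCharacter Spor.M12, charDegree (ψ : Spor.M12 → ℂ) = C.deg ψ := fun ψ => by
    rw [hdeg]
    exact Cfsg.Agent.MTwelve.ElevenMain.charDegree_eq_deg ψ
  rcases h0 with rfl | rfl | rfl | rfl
  · obtain ⟨h1, h2⟩ := deg_m12
    exact two_of_degs h1 h2 (by norm_num) (by norm_num) (by norm_num)
  · exact two_of_degs ⟨C.c45, by rw [hcd, C.d45]⟩ ⟨C.c120, by rw [hcd, C.d120]⟩ (by norm_num) (by norm_num)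
      (by norm_num)
  · exact two_of_degs ⟨C.c45, by rw [hcd, C.d45]⟩ ⟨C.c54, by rw [hcd, C.d54]⟩ (by norm_num) (by norm_num)
      (by norm_num)
  · exact two_of_degs ⟨C.c54, by rw [hcd, C.d54]⟩ ⟨C.c120, by rw [hcd, C.d120]⟩ (by norm_num) (by norm_num)
      (by norm_num)

/-- **The row `M₂₂`.** -/
theorem two_m22 {S : Type u} [Group S] (h : Cfsg.Spor.IsoM22 S) {p : ℕ} [hp : Fact p.Prime]
    (hd : p ∣ Nat.card S) : TwoOr p S := by
  have h' := H417.RecogMathieu.isM22 h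
  have : Finite S := Nat.finite_of_card_ne_zero (by rw [h'.2]; norm_num)
  have h0 := prime_mem hp.out (L := [(11, 1), (7, 1), (5, 1), (3, 2), (2, 7)]) (by norm_num) (N := 443520)
    (by decide +kernel) (h'.2 ▸ hd)
  simp only [List.map_cons, List.map_nil, List.mem_cons, List.not_mem_nil, or_false] at h0
  obtain ⟨f, hf⟩ := H417.DegMTwentyTwo.exists_enum h'
  have dec : ∀ p ∈ [11, 7, 5, 3, 2], ∃ i j : Fin 12, p ∣ M22.DegreesEnd.LB.getD i 0 ∧
      p ∣ M22.DegreesEnd.LB.getD j 0 ∧ M22.DegreesEnd.LB.getD i 0 ≠ M22.DegreesEnd.LB.getD j 0 := by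
    decide +kernel
  obtain ⟨i, j, h1, h2, h3⟩ := dec p (by simpa using h0)
  exact .inl (two_of_degs ⟨f i, hf i⟩ ⟨f j, hf j⟩ h1 h2 h3)

/-- **The row `M₂₃`.** -/
theorem two_m23 {S : Type u} [Group S] (h : Cfsg.Spor.IsoM23 S) {p : ℕ} [hp : Fact p.Prime]
    (hd : p ∣ Nat.card S) : TwoOr p S := by
  have h' := H417.RecogMathieu.isM23 h
  have : Finite S := Nat.finite_of_card_ne_zero (by rw [h'.2]; norm_num)
  have h0 := prime_mem hp.out (L := [(23, 1), (11, 1), (7, 1), (5, 1), (3, 2), (2, 7)]) (by norm_num)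
    (N := 10200960) (by decide +kernel) (h'.2 ▸ hd)
  simp only [List.map_cons, List.map_nil, List.mem_cons, List.not_mem_nil, or_false] at h0
  obtain ⟨hs, H, z, v, a, b, c, d, g, h, b₁, c₁, K⟩ := H417.DegMTwentyThree.exists_elev' h'
  rcases h0 with rfl | rfl | rfl | rfl | rfl | rfl
  · exact .inl (two_of_degs ⟨a, K.dga⟩ ⟨d, K.dgd⟩ (by norm_num) (by norm_num) (by norm_num))
  · exact .inl (two_of_degs ⟨g, K.dgg⟩ ⟨h, K.dgh⟩ (by norm_num) (by norm_num) (by norm_num))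
  · exact .inl (two_of_degs ⟨g, K.dgg⟩ ⟨b₁, K.dgb₁⟩ (by norm_num) (by norm_num) (by norm_num))
  · exact .inl (two_of_degs ⟨a, K.dga⟩ ⟨b, K.dgb⟩ (by norm_num) (by norm_num) (by norm_num))
  · exact .inl (two_of_degs ⟨g, K.dgg⟩ ⟨b, K.dgb⟩ (by norm_num) (by norm_num) (by norm_num))
  · exact .inl (two_of_degs ⟨a, K.dga⟩ ⟨h, K.dgh⟩ (by norm_num) (by norm_num) (by norm_num))

/-- **The row `M₂₄`.** -/
theorem two_m24 {S : Type u} [Group S] (h : Cfsg.Spor.IsoM24 S) {p : ℕ} [hp : Fact p.Prime]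
    (hd : p ∣ Nat.card S) : TwoOr p S := by
  have h' := H417.RecogMathieu.isM24 h
  have := h'.1
  have : Finite S := Nat.finite_of_card_ne_zero (by rw [h'.2]; norm_num)
  have h0 := prime_mem hp.out (L := [(23, 1), (11, 1), (7, 1), (5, 1), (3, 3), (2, 10)]) (by norm_num)
    (N := 244823040) (by decide +kernel) (h'.2 ▸ hd)
  simp only [List.map_cons, List.map_nil, List.mem_cons, List.not_mem_nil, or_false] at h0
  obtain ⟨H⟩ := M24Order.Final.exists_hyp h'.2
  have : Fact (Nat.Prime 5) := ⟨by norm_num⟩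
  have : Fact (Nat.Prime 7) := ⟨by norm_num⟩
  obtain ⟨R⟩ : Nonempty (Sylow 5 S) := inferInstance
  obtain ⟨T⟩ : Nonempty (Sylow 7 S) := inferInstance
  obtain ⟨K, M, B, ε, a, b, c, d, h5, ⟨K', M', D, a', h7⟩ | ⟨K', M', B', ε', l', h7⟩⟩ :=
    SporadicA.M24.Convert.exists_blocks H R T
  · obtain ⟨t, v, Θ, Θ', L⟩ := M24Order.ToLast.exists_last H h5 h7
    rcases h0 with rfl | rfl | rfl | rfl | rfl | rfl
    · exact .inl (two_of_degs ⟨_, L.d1035⟩ ⟨_, L.d1771⟩ (by norm_num) (by norm_num) (by norm_num))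
    · exact .inl (two_of_degs ⟨_, L.d2024⟩ ⟨_, L.d1771⟩ (by norm_num) (by norm_num) (by norm_num))
    · exact .inl (two_of_degs ⟨_, L.d5796⟩ ⟨_, L.d1771⟩ (by norm_num) (by norm_num) (by norm_num))
    · exact .inl (two_of_degs ⟨_, L.d1035⟩ ⟨_, L.d990⟩ (by norm_num) (by norm_num) (by norm_num))
    · exact .inl (two_of_degs ⟨_, L.d1035⟩ ⟨_, L.d990⟩ (by norm_num) (by norm_num) (by norm_num))
    · exact .inl (two_of_degs ⟨_, L.d2024⟩ ⟨_, L.d5796⟩ (by norm_num) (by norm_num) (by norm_num))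
  · exact (S0422.six_false (SporadicA.M24.Convert.conv H) h5 h7).elim

end Cfsg.Agent.H651.Two.Mathieu
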