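import Cfsg.Agent.H651.Two.Count

/-!
# Counting characters of degree divisible by `p`: lists of classes

* `regular_le_lists` : `regular_le` with `f n` nonconjugate elements of order `n ∈ S`;
* `regular_le_orders` : `regular_le` with one element of each order `n ∈ S`;
* `exists_powers` : `x` of prime order `r`, `|N(⟨x⟩) : C(x)| ≤ e`: `k` nonconjugate powers, `k e ≤ r - 1`.
-/

set_option autoImplicit false

open Cfsg

namespace Cfsg.Agent.H651.Two

open Cfsg.Agent.H596.OneFacts Cfsg.Agent.H33 Subgroup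
open Cfsg.Agent.Blocks.Basic Cfsg.Agent.Blocks.Local
open Cfsg.Agent.H593.IMCount Cfsg.Agent.H593.IMCyc Cfsg.Agent.H593.IMRank
open Cfsg.Agent.H713.Count

universe u

/-- Families of nonconjugate elements from lists. -/
theorem family_of_lists {G : Type u} [Group G] {P : ℕ → Prop} (S : Finset ℕ) (f : ℕ → ℕ)
    (hS : ∀ n ∈ S, P n ∧ ∃ l : List G, l.length = f n ∧
      (∀ g ∈ l, orderOf g = n) ∧ l.Pairwise fun a b => ¬ IsConj a b) :
    ∃ (ι : Type) (_ : Fintype ι) (t : ι → G), (∀ i, P (orderOf (t i))) ∧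
      (∀ i j, IsConj (t i) (t j) → i = j) ∧ Fintype.card ι = ∑ n ∈ S, f n := by
  choose l hl using fun n : S => (hS n n.2).2
  refine ⟨Σ n : S, Fin (l n).length, inferInstance, fun i => (l i.1).get i.2, ?_, ?_, ?_⟩
  · rintro ⟨n, i⟩
    rw [(hl n).2.1 _ (List.get_mem _ _)]
    exact (hS n n.2).1
  · rintro ⟨n, i⟩ ⟨k, j⟩ hij
    have h1 : (n : ℕ) = k := by
      obtain ⟨c, hc⟩ := isConj_iff.1 hij
      rw [← (hl n).2.1 _ (List.get_mem (l n) i), ← (hl k).2.1 _ (List.get_mem (l k) j), ← orderOf_conj c, hc]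
    have h2 : n = k := Subtype.ext h1
    subst h2
    have h3 := List.pairwise_iff_get.1 (hl n).2.2
    rcases lt_trichotomy i j with h4 | h4 | h4
    · exact absurd hij (h3 i j h4)
    · rw [h4]
    · exact absurd hij.symm (h3 j i h4)
  · rw [Fintype.card_sigma]
    simp only [Fintype.card_fin]
    calc _ = ∑ n : S, f n := Finset.sum_congr rfl fun n _ => (hl n).1
      _ = ∑ n ∈ S, f n := Finset.sum_coe_sort S f

theorem regular_le_lists {G : Type u} [Group G] [Finite G] {p : ℕ} [hp : Fact p.Prime]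
    (hG : (Nat.card G).factorization p = 1) {x : G} (hx : orderOf x = p)
    {e m : ℕ} (he : (Cfsg.Agent.H713.Count.fus (p := p) x).card ≤ e) (hm : numCls p (zpowers x) ≤ m)
    (S : Finset ℕ) (f : ℕ → ℕ) (hS : ∀ n ∈ S, ¬ p ∣ n ∧ ∃ l : List G, l.length = f n ∧
      (∀ g ∈ l, orderOf g = n) ∧ l.Pairwise fun a b => ¬ IsConj a b) :
    ∑ n ∈ S, f n ≤ ND p G + e * m := by
  obtain ⟨ι, hι, t, h1, h2, h3⟩ := family_of_lists (P := fun n => ¬ p ∣ n) S f hS
  rw [← h3]
  exact regular_le hG hx he hm t h1 h2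

theorem regular_le_orders {G : Type u} [Group G] [Finite G] {p : ℕ} [hp : Fact p.Prime]
    (hG : (Nat.card G).factorization p = 1) {x : G} (hx : orderOf x = p)
    {e m : ℕ} (he : (Cfsg.Agent.H713.Count.fus (p := p) x).card ≤ e) (hm : numCls p (zpowers x) ≤ m)
    (S : Finset ℕ) (hS : ∀ n ∈ S, ¬ p ∣ n ∧ ∃ g : G, orderOf g = n) :
    S.card ≤ ND p G + e * m := by
  have h := regular_le_lists hG hx he hm S (fun _ => 1) fun n hn => ⟨(hS n hn).1, by
    obtain ⟨g, hg⟩ := (hS n hn).2
    exact ⟨[g], rfl, by simpa using hg, List.pairwise_singleton _ _⟩⟩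
  simpa using h

/-- The number of automorphisms of `⟨x⟩` is at most `p - 1`. -/
theorem fus_le {G : Type u} [Group G] {p : ℕ} [hp : Fact p.Prime] {x : G} (hx : orderOf x = p) :
    (fus (p := p) x).card ≤ p - 1 := by
  have hxp : x ^ p = 1 := orderOf_dvd_iff_pow_eq_one.1 (dvd_of_eq hx)
  have h := card_fus_mul_card_sing (p := p) hxp
  have hpos : 0 < (sing p x).card := by
    rcases Nat.eq_zero_or_pos (sing p x).card with h0 | h0
    · rw [h0, mul_zero] at h
      have := hp.out.two_le
      omega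
    · exact h0
  calc _ ≤ (fus (p := p) x).card * (sing p x).card := Nat.le_mul_of_pos_right _ hpos
    _ = p - 1 := h

/-- **Nonconjugate powers.** `r - 1 = e * k`, `e` a bound for the number of conjugates of `x` in `⟨x⟩`: there are
`k` nonconjugate powers of `x`. -/
theorem exists_powers {G : Type u} [Group G] {r : ℕ} [hr : Fact r.Prime] {x : G} (hx : orderOf x = r)
    {e k : ℕ} (he : (fus (p := r) x).card ≤ e) (hek : e * k ≤ r - 1) (he0 : 0 < e) :
    ∃ l : List G, l.length = k ∧ (∀ g ∈ l, orderOf g = r) ∧ l.Pairwise fun a b => ¬ IsConj a b := by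
  classical
  have hxp : x ^ r = 1 := orderOf_dvd_iff_pow_eq_one.1 (dvd_of_eq hx)
  have h := card_fus_mul_card_sing (p := r) hxp
  have hk : k ≤ (sing r x).card := by
    by_contra hcon
    push Not at hcon
    have h1 : (fus (p := r) x).card * (sing r x).card < e * k :=
      calc (fus (p := r) x).card * (sing r x).card ≤ e * (sing r x).card := Nat.mul_le_mul_right _ he
        _ < e * k := Nat.mul_lt_mul_of_pos_left hcon he0
    omega
  have hord : ∀ c ∈ sing r x, ∃ g : G, ConjClasses.mk g = c ∧ orderOf g = r := by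
    intro c hc
    obtain ⟨i, hi, rfl⟩ := mem_sing.1 hc
    refine ⟨_, rfl, ?_⟩
    refine orderOf_eq_prime ?_ ?_
    · rw [← pow_mul, mul_comm, pow_mul, hxp, one_pow]
    · intro h1
      have h2 := orderOf_dvd_of_pow_eq_one h1
      rw [hx] at h2
      apply hi
      have h3 := Nat.eq_zero_of_dvd_of_lt h2 (ZMod.val_lt i)
      exact (ZMod.val_eq_zero i).1 h3
  choose! g hg using hord
  refine ⟨((sing r x).toList.take k).map g, ?_, ?_, ?_⟩
  · rw [List.length_map, List.length_take, Finset.length_toList]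
    exact min_eq_left hk
  · intro y hy
    obtain ⟨c, hc, rfl⟩ := List.mem_map.1 hy
    exact (hg c (Finset.mem_toList.1 (List.mem_of_mem_take hc))).2
  · rw [List.pairwise_map]
    refine List.Pairwise.imp_of_mem ?_ (List.Pairwise.sublist (List.take_sublist k _)
      (Finset.nodup_toList (sing r x)))
    intro a b ha hb hab hcon
    apply hab
    rw [← (hg a (Finset.mem_toList.1 (List.mem_of_mem_take ha))).1,
      ← (hg b (Finset.mem_toList.1 (List.mem_of_mem_take hb))).1]
    exact ConjClasses.mk_eq_mk_iff_isConj.2 hcon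

/-- `|N(⟨x⟩)| = e |C(x)|` gives the number of conjugates of `x` in `⟨x⟩`. -/
theorem fus_card_of {G : Type u} [Group G] [Finite G] {r : ℕ} [hr : Fact r.Prime] {x : G} (hx : orderOf x = r)
    {c e : ℕ} (hc : Nat.card (centralizer ({x} : Set G)) = c)
    (hn : Nat.card (normalizer ((zpowers x : Subgroup G) : Set G)) = e * c) :
    (fus (p := r) x).card = e := by
  have h := Cfsg.Agent.H713.card_normalizer_zpowers hx
  rw [hn, hc] at h
  have hpos : 0 < c := by rw [← hc]; exact Nat.card_pos
  have := Nat.eq_of_mul_eq_mul_right hpos h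
  exact this.symm

/-- A self-centralizing subgroup of order `p`. -/
theorem numCls_le_one {G : Type u} [Group G] [Finite G] {p : ℕ} [hp : Fact p.Prime]
    (hG : (Nat.card G).factorization p = 1) {x : G} (hx : orderOf x = p)
    (hc : Nat.card (centralizer ({x} : Set G)) = p) : numCls p (zpowers x) ≤ 1 := by
  have hcard : Nat.card (zpowers x) = p ^ (Nat.card G).factorization p := by
    rw [Nat.card_zpowers, hx, hG, pow_one]
  have h := numCls_eq_one (p := p) (Sylow.ofCard (zpowers x) hcard) (by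
    show IsPGroup p (centralizer ((zpowers x : Subgroup G) : Set G))
    rw [← Cfsg.Agent.H870.IMLocal.centralizer_zpowers]
    exact IsPGroup.of_card (n := 1) (by rw [hc, pow_one]))
  exact h.le

/-- **Self-centralizing subgroup of order `p`.** -/
theorem self_le {G : Type u} [Group G] [Finite G] {p : ℕ} [hp : Fact p.Prime]
    (hG : (Nat.card G).factorization p = 1) {x : G} (hx : orderOf x = p)
    (hc : Nat.card (centralizer ({x} : Set G)) = p)
    {e : ℕ} (he : (Cfsg.Agent.H713.Count.fus (p := p) x).card ≤ e)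
    (S : Finset ℕ) (f : ℕ → ℕ) (hS : ∀ n ∈ S, ¬ p ∣ n ∧ ∃ l : List G, l.length = f n ∧
      (∀ g ∈ l, orderOf g = n) ∧ l.Pairwise fun a b => ¬ IsConj a b) :
    ∑ n ∈ S, f n ≤ ND p G + e := by
  have h := regular_le_lists hG hx he (numCls_le_one hG hx hc) S f hS
  rwa [mul_one] at h

end Cfsg.Agent.H651.Two
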