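import Cfsg.Agent.H651.Two.J4Cert
import Cfsg.Agent.H651.Two.CountList
import Cfsg.Agent.H492.IMJ4
import Cfsg.Agent.H877.IMJ4
import Cfsg.Agent.S2068

/-!
# `J₄`: two characters of degree divisible by `p`
-/

set_option autoImplicit false

namespace Cfsg.Agent.H651.Two.J4

open Cfsg Subgroup
open Cfsg.Agent.H653.Sieve Cfsg.Agent.Characters.Core Cfsg.Agent.H596.OneFacts
open Cfsg.Agent.H33 Cfsg.Agent.H860.Count Cfsg.Agent.H593.IMCount
open Cfsg.Agent.H723.Spor.JFour Cfsg.Agent.H860.PartFiveSeven Cfsg.Agent.H858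
open Cfsg.Agent.Blocks.Knorr Cfsg.Agent.H860.CountPrime Cfsg.Agent.H860.CountDirect
open Cfsg.Agent.H877.IMJ4 (finJ4 simple nonab numReg_le_nc nc_35)

universe u

theorem card' : Nat.card Spor.J4 = 86775571046077562880 := H860.PartFiveSeven.card_J4

theorem has : ∀ d ∈ cd, d.Has Spor.J4 := by
  have := finJ4
  intro d hd
  simp only [cd, List.mem_cons, List.not_mem_nil, or_false] at hd
  rcases hd with rfl | rfl | rfl | rfl | rfl
  · exact has_of_sub (by norm_num) (by rw [card']; norm_num) fun R hR => (H859.BigNum.data29' hR).1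
  · exact has_of_sub (by norm_num) (by rw [card']; norm_num) fun R hR => (H859.BigNum.data43 hR).1
  · exact has_of_sub (by norm_num) (by rw [card']; norm_num) fun R hR => (H859.BigNum.data23 hR).1
  · exact has_of_sub (by norm_num) (by rw [card']; norm_num) fun R hR => (H859.BigNum.data37 hR).1
  · exact has_of_sub (by norm_num) (by rw [card']; norm_num) fun R hR => (H859.BigNum.data31 hR).1

/-- `p = 5`: counting. -/
theorem three_5 : 3 ≤ ND 5 Spor.J4 := by
  have := finJ4
  have hp : Nat.Prime 5 := by norm_num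
  have : Fact (Nat.Prime 5) := ⟨hp⟩
  have hf : orderOf Elem.f = 5 := orderOf_eq_prime Elem.f_pow Loc5.f_ne
  have h49 : ¬ 5 * 5 ∣ Nat.card Cfsg.Spor.J4 := by rw [card_J4]; norm_num
  have h := nc_part (G := Cfsg.Spor.J4) (p := 5) (fun _ => True) (m := 1) (fun _ => Elem.f)
    (fun _ => ⟨0, by rw [hf]; norm_num⟩) (fun _ _ _ => Subsingleton.elim _ _)
    (fun g hg => ⟨0, by
      obtain ⟨e, he⟩ := hg
      exact isConj_of_nc_one nc_five_eq (order_of_pow h49 he) hf⟩)
  have h0 : nc Cfsg.Spor.J4 (fun n => 5 ∣ n) = nc Cfsg.Spor.J4 (fun n => 5 ∣ n ∧ True) :=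
    nc_congr fun g => (and_iff_left trivial).symm
  rw [Fin.sum_univ_one, ← h0] at h
  have h1 := nc_add (G := Spor.J4) (fun n => 5 ∣ n) (fun n => 7 ∣ n)
  have h2 := nc_five
  have h3 : nc Spor.J4 (fun n => 5 ∣ n ∧ 7 ∣ n) ≤ 2 :=
    le_trans (le_of_eq (nc_congr fun g => and_comm)) nc_35
  have h4 : nc Spor.J4 (fun n => 5 ∣ n) ≤ 11 := by omega
  have h5 : (Nat.card (Subgroup.centralizer ({Elem.f} : Set Cfsg.Spor.J4))).factorization 5 ≤ 1 := by
    by_contra hlt
    push Not at hlt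
    apply h49
    rw [← pow_two]
    exact ((Nat.pow_dvd_pow 5 hlt).trans (Nat.ordProj_dvd _ _)).trans (Subgroup.card_subgroup_dvd_card _)
  have h6 := classes_le (p := 5) (x := Elem.f) ⟨1, by rw [hf]; norm_num⟩
  rw [H877.IMJ4.card_classes] at h6
  have h7 := Nat.mul_le_mul (Nat.pow_le_pow_right (n := 5) (by norm_num) h5)
    ((numReg_le_nc 5).trans (h ▸ h4))
  omega

theorem deg (i : Fin 5) : ∃ χ : IrrCharacter Spor.J4, charDegree (χ : Spor.J4 → ℂ) =
    ![889111, 1776888, 4290927, 95288172, 35411145] i := by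
  fin_cases i
  · obtain ⟨χ, hχ⟩ := H492.IMJ4.exists_889111
    exact ⟨χ, by rw [Cfsg.Agent.H670.PSing.charDegree_eq_of hχ]; rfl⟩
  · obtain ⟨χ, hχ⟩ := H492.IMJ4.exists_1776888
    exact ⟨χ, by rw [Cfsg.Agent.H670.PSing.charDegree_eq_of hχ]; rfl⟩
  · obtain ⟨χ, hχ⟩ := H492.IMJ4.exists_4290927
    exact ⟨χ, by rw [Cfsg.Agent.H670.PSing.charDegree_eq_of hχ]; rfl⟩
  · obtain ⟨χ, hχ⟩ := H492.IMJ4.exists_95288172
    exact ⟨χ, by rw [Cfsg.Agent.H670.PSing.charDegree_eq_of hχ]; rfl⟩
  · obtain ⟨χ, hχ⟩ := H492.IMJ4.exists_35411145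
    exact ⟨χ, by rw [Cfsg.Agent.H670.PSing.charDegree_eq_of hχ]; rfl⟩

theorem two (p : ℕ) (hp : p.Prime) (hd : p ∣ Nat.card Spor.J4) : Two p Spor.J4 := by
  have := finJ4
  have := simple
  have hM : Nat.card (Out Spor.J4) ≤ 1 := Cfsg.Agent.S2068.result.le
  have h := prime_mem hp facs_prime facs_prod (card' ▸ hd)
  simp only [facs, List.map_cons, List.map_nil, List.mem_cons, List.not_mem_nil, or_false] at h
  rcases h with rfl | rfl | rfl | rfl | rfl | rfl | rfl | rfl | rfl | rfl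
  · exact two_of_degs (deg 0) (deg 3) (by decide) (by decide) (by decide)
  · exact two_of_degs (deg 1) (deg 2) (by decide) (by decide) (by decide)
  · exact two_of_degs (deg 0) (deg 2) (by decide) (by decide) (by decide)
  · exact two_of_degs (deg 0) (deg 1) (by decide) (by decide) (by decide)
  · exact two_of_degs (deg 0) (deg 1) (by decide) (by decide) (by decide)
  · exact two_11 nonab card' hM has
  · exact two_of_degs (deg 3) (deg 4) (by decide) (by decide) (by decide)
  · exact two_of_three (hM.trans (by norm_num)) three_5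
  · exact two_of_degs (deg 1) (deg 2) (by decide) (by decide) (by decide)
  · exact two_of_degs (deg 1) (deg 3) (by decide) (by decide) (by decide)

/-- **The row `J₄`.** -/
theorem two_j4 {S : Type u} [Group S] (h : Cfsg.Spor.IsoJ4 S) {p : ℕ} [hp : Fact p.Prime]
    (hd : p ∣ Nat.card S) : TwoOr p S := twoOr_of h hd (two p hp.out)

end Cfsg.Agent.H651.Two.J4
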