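import Cfsg.Agent.H651.Two.Base
import Cfsg.Agent.H593.IMCount2
import Cfsg.Agent.H593.IMCyc
import Cfsg.Agent.H724.IMTool

/-!
# Counting characters of degree divisible by `p`

* `classes_le` : `x` a `p`-element: `k(G) ≤ ND p G + |C(x)|_p * numReg p C(x)`;
* `classes_le_pgroup` : if `C(x)` is a `p`-group, `k(G) ≤ ND p G + |C(x)|`;
* `classes_le_prime` : `x` of order `p`, `p² ∤ |C(x)|`, `m` classes of `p'`-elements of `C(x)`:
  `k(G) ≤ ND p G + p * m`;
* `regular_le` : Sylow `p`-subgroups of order `p`: number of classes of `p'`-elements `≤ ND p G + e m`.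
-/

set_option autoImplicit false

open Cfsg

namespace Cfsg.Agent.H651.Two

open Cfsg.Agent.H596.OneFacts Cfsg.Agent.H33 Subgroup
open Cfsg.Agent.Blocks.Basic Cfsg.Agent.Blocks.Local
open Cfsg.Agent.H593.IMCount Cfsg.Agent.H593.IMCyc Cfsg.Agent.H593.IMRank

universe u

variable {G : Type u} [Group G] [Finite G] {p : ℕ} [hp : Fact p.Prime]

theorem card_ne_zero_le {x : G} (hx : ∃ j : ℕ, orderOf x = p ^ j) :
    Nat.card {χ : IrrCharacter G // (χ : G → ℂ) x ≠ 0} ≤
      p ^ (Nat.card (Subgroup.centralizer ({x} : Set G))).factorization p *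
        numReg p (Subgroup.centralizer ({x} : Set G)) := by
  classical
  have := Fintype.ofFinite G
  have := Fintype.ofFinite (Subgroup.centralizer ({x} : Set G))
  have hfin := Cfsg.Agent.Characters.Core.finite_irr (G := G)
  have := Fintype.ofFinite (IrrCharacter G)
  have : NeZero (Nat.card G) := ⟨Nat.card_pos.ne'⟩
  have h1 : ∀ χ : IrrCharacter G, (χ : G → ℂ) x ≠ 0 → (Fintype.card (ZMod (Nat.card G))ˣ : ℝ) ≤
      ∑ u : (ZMod (Nat.card G))ˣ, RR p (χ : G → ℂ) x (u : ZMod (Nat.card G)).val := fun χ h =>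
    card_le_sum_nonneg (galFam_FF (p := p) (x := x) (Cfsg.Agent.Characters.Core.isIrr_isCharacter χ.2))
      (RR_one_ne_zero h) (fun k => FF_eq_real _ k) (fun k => RR_nonneg _ k)
  have h2 := Finset.sum_le_sum (s := Finset.univ.filter fun χ : IrrCharacter G => (χ : G → ℂ) x ≠ 0)
    fun χ hχ => h1 χ (Finset.mem_filter.1 hχ).2
  rw [Finset.sum_const] at h2
  have h2' := h2.trans (Finset.sum_le_sum_of_subset_of_nonneg (Finset.filter_subset _ Finset.univ)
    fun χ _ _ => Finset.sum_nonneg fun u _ => RR_nonneg (x := x) (p := p) (χ : G → ℂ)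
      (u : ZMod (Nat.card G)).val)
  rw [Finset.sum_comm] at h2'
  have h3 : ∀ u : (ZMod (Nat.card G))ˣ, ∑ χ : IrrCharacter G,
      RR p (χ : G → ℂ) x (u : ZMod (Nat.card G)).val =
      (p ^ (Nat.card (Subgroup.centralizer ({x} : Set G))).factorization p *
        numReg p (Subgroup.centralizer ({x} : Set G)) : ℕ) := fun u =>
    sum_RR hx (ZMod.val_coe_unit_coprime u)
  simp only [h3] at h2'
  rw [Finset.sum_const, Finset.card_univ, nsmul_eq_mul, nsmul_eq_mul,
    mul_comm (Fintype.card (ZMod (Nat.card G))ˣ : ℝ)] at h2'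
  have hpos : (0 : ℝ) < Fintype.card (ZMod (Nat.card G))ˣ := by exact_mod_cast Fintype.card_pos
  have h4 := le_of_mul_le_mul_right h2' hpos
  rw [Nat.card_eq_fintype_card, Fintype.card_subtype]
  exact_mod_cast h4

/-- Characters not vanishing at a `p`-element. -/
theorem conjClasses_le {x : G} (hx : ∃ j : ℕ, orderOf x = p ^ j) {m : ℕ}
    (hm : Nat.card {χ : IrrCharacter G // (χ : G → ℂ) x ≠ 0} ≤ m) :
    Nat.card (ConjClasses G) ≤ ND p G + m := by
  classical
  have hfin := Cfsg.Agent.Characters.Core.finite_irr (G := G)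
  have := Fintype.ofFinite (IrrCharacter G)
  rw [← Cfsg.Agent.Characters.Core.card_irr]
  refine le_trans ?_ (Nat.add_le_add_left hm _)
  have h1 : ∀ χ : IrrCharacter G, χ ∈ PD p G ∨ (χ : G → ℂ) x ≠ 0 := by
    intro χ
    by_cases h : (χ : G → ℂ) x = 0
    · exact Or.inl
        (Cfsg.Agent.S4558.result p (χ : G → ℂ) (Cfsg.Agent.Characters.Core.isIrr_isCharacter χ.2) x hx h)
    · exact Or.inr h
  have h2 : Nat.card (PD p G ⊕ {χ : IrrCharacter G // (χ : G → ℂ) x ≠ 0}) =
      ND p G + Nat.card {χ : IrrCharacter G // (χ : G → ℂ) x ≠ 0} := Nat.card_sum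
  rw [← h2]
  refine Nat.card_le_card_of_injective (fun χ : IrrCharacter G =>
    if h : χ ∈ PD p G then (Sum.inl ⟨χ, h⟩ : PD p G ⊕ {χ : IrrCharacter G // (χ : G → ℂ) x ≠ 0})
    else Sum.inr ⟨χ, (h1 χ).resolve_left h⟩) ?_
  intro χ χ' h
  dsimp only at h
  split_ifs at h with h3 h4 h4
  · exact congrArg Subtype.val (Sum.inl.inj h)
  · exact congrArg Subtype.val (Sum.inr.inj h)

/-- `k(G) ≤ ND p G + |C(x)|_p * numReg p C(x)`. -/
theorem classes_le {x : G} (hx : ∃ j : ℕ, orderOf x = p ^ j) :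
    Nat.card (ConjClasses G) ≤ ND p G +
      p ^ (Nat.card (Subgroup.centralizer ({x} : Set G))).factorization p *
        numReg p (Subgroup.centralizer ({x} : Set G)) :=
  conjClasses_le hx (card_ne_zero_le hx)

/-- `C(x)` a `p`-group. -/
theorem classes_le_pgroup {x : G} (hx : ∃ j : ℕ, orderOf x = p ^ j)
    (hC : IsPGroup p (Subgroup.centralizer ({x} : Set G))) :
    Nat.card (ConjClasses G) ≤ ND p G + Nat.card (Subgroup.centralizer ({x} : Set G)) := by
  have h1 := classes_le hx
  rw [numReg_eq_one hC, mul_one] at h1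
  refine h1.trans (Nat.add_le_add_left (le_of_eq ?_) _)
  obtain ⟨a, ha⟩ := IsPGroup.iff_card.1 hC
  rw [ha, hp.out.factorization_pow, Finsupp.single_eq_same]

/-- `x` of order `p`, `p² ∤ |C(x)|`. -/
theorem classes_le_prime {x : G} (hx : orderOf x = p)
    (hC : ¬ p ^ 2 ∣ Nat.card (Subgroup.centralizer ({x} : Set G))) {ι : Type*} [Fintype ι]
    (t : ι → Subgroup.centralizer ({x} : Set G))
    (ht : ∀ c : Subgroup.centralizer ({x} : Set G), ¬ p ∣ orderOf c → ∃ i, IsConj (t i) c) :
    Nat.card (ConjClasses G) ≤ ND p G + p * Fintype.card ι := by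
  refine (classes_le (x := x) ⟨1, by rw [hx, pow_one]⟩).trans (Nat.add_le_add_left ?_ _)
  refine Nat.mul_le_mul ?_ (numReg_le t ht)
  have h1 : (Nat.card (Subgroup.centralizer ({x} : Set G))).factorization p ≤ 1 := by
    by_contra hcon
    push Not at hcon
    exact hC ((hp.out.pow_dvd_iff_le_factorization Nat.card_pos.ne').2 hcon)
  calc p ^ (Nat.card (Subgroup.centralizer ({x} : Set G))).factorization p ≤ p ^ 1 :=
        Nat.pow_le_pow_right hp.out.pos h1
    _ = p := pow_one p

/-- `p`-rank of the space of restrictions to `p'`-elements, cyclic Sylow subgroup. -/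
theorem blockRank_univ_le (P : Sylow p G) (hcyc : IsCyclic P) (hpG : p ∣ Nat.card G) :
    blockRank p (Set.univ : Set (IrrCharacter G)) ≤ ND p G +
      (Subgroup.centralizer ((P : Subgroup G) : Set G)).relIndex
        (Subgroup.normalizer ((P : Subgroup G) : Set G)) * numCls p (P : Subgroup G) := by
  classical
  obtain ⟨M, hM⟩ := Cfsg.Agent.Blocks.Knorr.exists_isPModular p
  have hMp := isPrime_of_isPModular hM
  have hfin := Cfsg.Agent.Characters.Core.finite_irr (G := G)
  have hne : ∀ B : Set (IrrCharacter G), IsPBlock M B → B.Nonempty := by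
    intro B hB
    exact isPBlock_nonempty hB
  obtain ⟨a, ha⟩ := IsPGroup.iff_card.1 P.isPGroup'
  have ha1 : 1 ≤ a := by
    by_contra hcon
    have h0 : a = 0 := by omega
    rw [h0, pow_zero] at ha
    have h1 : p ∣ Nat.card P := P.dvd_card_of_dvd_card hpG
    rw [ha, Nat.dvd_one] at h1
    exact hp.out.one_lt.ne' h1
  rw [H608.BlockRank.blockRank_eq_finsum hM (A := Set.univ) (fun _ _ _ _ => Set.mem_univ _)]
  have hS : {b : Set (IrrCharacter G) | IsPBlock M b ∧ b ⊆ Set.univ}.Finite := Set.toFinite _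
  rw [finsum_mem_eq_finite_toFinset_sum _ hS]
  set T := hS.toFinset with hT
  rw [← Finset.sum_filter_add_sum_filter_not T (fun B => ¬ IsDefectGroup p M B (P : Subgroup G))]
  refine Nat.add_le_add ?_ ?_
  · -- blocks of smaller defect
    have h1 : ∀ B ∈ T.filter (fun B => ¬ IsDefectGroup p M B (P : Subgroup G)),
        blockRank p B ≤ Nat.card B := fun B hB =>
      (Cfsg.Agent.S4733.result p M hM B (hS.mem_toFinset.1 (Finset.mem_filter.1 hB).1).1).1
    refine (Finset.sum_le_sum h1).trans ?_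
    have h2 : ∀ B ∈ T.filter (fun B => ¬ IsDefectGroup p M B (P : Subgroup G)), B ⊆ PD p G := by
      intro B hB χ hχ
      by_contra hcon
      refine (Finset.mem_filter.1 hB).2
        ((H646.DefectBasic.isDefectGroup_iff_sylow hM
          (hS.mem_toFinset.1 (Finset.mem_filter.1 hB).1).1 hχ hcon _).2 ⟨P, rfl⟩)
    have h3 : ∑ B ∈ T.filter (fun B => ¬ IsDefectGroup p M B (P : Subgroup G)), Nat.card B =
        Nat.card (Σ B : T.filter (fun B => ¬ IsDefectGroup p M B (P : Subgroup G)), (B : Set (IrrCharacter G))) := by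
      rw [Nat.card_sigma, Finset.sum_coe_sort (T.filter fun B => ¬ IsDefectGroup p M B (P : Subgroup G))
        (fun B => Nat.card B)]
    rw [h3]
    refine Nat.card_le_card_of_injective
      (fun z : (Σ B : T.filter (fun B => ¬ IsDefectGroup p M B (P : Subgroup G)),
        (B : Set (IrrCharacter G))) => (⟨z.2.1, h2 _ z.1.2 z.2.2⟩ : PD p G)) ?_
    rintro ⟨⟨B, hB⟩, ⟨χ, hχ⟩⟩ ⟨⟨B', hB'⟩, ⟨χ', hχ'⟩⟩ h
    have h4 : χ = χ' := congrArg (fun z : PD p G => (z : IrrCharacter G)) h
    subst h4
    have h5 : B = B' := isPBlock_eq_of_mem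
      (hS.mem_toFinset.1 (Finset.mem_filter.1 hB).1).1
      (hS.mem_toFinset.1 (Finset.mem_filter.1 hB').1).1 hχ hχ'
    subst h5
    rfl
  · refine (Finset.sum_le_card_nsmul _ _ ((Subgroup.centralizer ((P : Subgroup G) : Set G)).relIndex
      (Subgroup.normalizer ((P : Subgroup G) : Set G))) fun B hB => ?_).trans ?_
    · obtain ⟨h1, h2⟩ := Finset.mem_filter.1 hB
      exact Cfsg.Agent.H593.IMCyc.blockRank_le hM (P : Subgroup G) hcyc ha1 ha (hS.mem_toFinset.1 h1).1
        (not_not.1 h2)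
    · rw [smul_eq_mul, mul_comm]
      refine Nat.mul_le_mul_left _ ?_
      have h1 := S0953.result p M hM P
      unfold numCls
      rw [← h1]
      have : Finite {B : Set (IrrCharacter G) // IsPBlock M B ∧
        IsDefectGroup p M B (P : Subgroup G)} := inferInstance
      have := Fintype.ofFinite {B : Set (IrrCharacter G) // IsPBlock M B ∧
        IsDefectGroup p M B (P : Subgroup G)}
      rw [Nat.card_eq_fintype_card, ← Fintype.card_coe]
      refine Fintype.card_le_of_injective (fun B => ⟨B.1, ?_, ?_⟩) ?_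
      · exact (hS.mem_toFinset.1 (Finset.mem_filter.1 B.2).1).1
      · exact not_not.1 (Finset.mem_filter.1 B.2).2
      · intro B B' hBB
        apply Subtype.ext
        have h2 := congrArg Subtype.val hBB
        exact h2

/-- **Sylow `p`-subgroups of order `p`**: `m` bounds the number of `N(P)`-classes of `p'`-elements
of `C(P)`, `e = |N(P) : C(P)|`. -/
theorem regular_le (hG : (Nat.card G).factorization p = 1) {x : G} (hx : orderOf x = p)
    {e m : ℕ} (he : (Cfsg.Agent.H713.Count.fus (p := p) x).card ≤ e) (hm : numCls p (zpowers x) ≤ m)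
    {ι : Type*} [Fintype ι] (t : ι → G) (ht : ∀ i, ¬ p ∣ orderOf (t i))
    (hne : ∀ i j, IsConj (t i) (t j) → i = j) : Fintype.card ι ≤ ND p G + e * m := by
  have hcard : Nat.card (zpowers x) = p ^ (Nat.card G).factorization p := by
    rw [Nat.card_zpowers, hx, hG, pow_one]
  let P : Sylow p G := Sylow.ofCard (zpowers x) hcard
  have hpG : p ∣ Nat.card G := by rw [← hx]; exact orderOf_dvd_natCard x
  refine (card_le_blockRank p t ht hne).trans
    ((blockRank_univ_le P (show IsCyclic (zpowers x) from inferInstance) hpG).trans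
      (Nat.add_le_add_left ?_ _))
  refine Nat.mul_le_mul ?_ hm
  exact (Cfsg.Agent.H724.IMTool.relIndex_eq hx).le.trans he

end Cfsg.Agent.H651.Two
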