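import Cfsg.Agent.H566.Two.CoTwoA
import Cfsg.Agent.H843.IMC.Co2C

/-!
# `Co₂`: two characters of degree divisible by `p`

A degree divisible by `6` and the degrees `2024`, `2277`.
-/

set_option autoImplicit false

namespace Cfsg.Agent.H651.Two.Co2

open Cfsg Cfsg.Agent.H596.OneFacts Cfsg.Agent.H843.IMC

universe u

theorem two_two : Two 2 Spor.Co2 := by
  obtain ⟨χ, hχ⟩ := Co2C.hasDvd_six
  obtain ⟨ψ, hψ⟩ := Co2A.hasDeg_2024_275.1
  exact two_of_degree_ne χ ψ (dvd_trans (by norm_num) hχ) (by rw [hψ]; norm_num) (by omega)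

theorem two_three : Two 3 Spor.Co2 := by
  obtain ⟨χ, hχ⟩ := Co2C.hasDvd_six
  obtain ⟨ψ, hψ⟩ := Co2B.hasDeg_2277
  exact two_of_degree_ne χ ψ (dvd_trans (by norm_num) hχ) (by rw [hψ]; norm_num) (by omega)

/-- **`Co₂`.** -/
theorem two_co2 {S : Type u} [Group S] (h : Cfsg.Spor.IsoCo2 S) {p : ℕ} [hp : Fact p.Prime]
    (hd : p ∣ Nat.card S) : TwoOr p S :=
  Cfsg.Agent.H566.Two.CoTwoA.two_co2_of h hd two_two two_three

end Cfsg.Agent.H651.Two.Co2
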