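import Cfsg.Agent.H651.Two.J3Cert
import Cfsg.Agent.H653.Spor.J3
import Cfsg.Agent.H724.IMJThree
import Cfsg.Agent.H305.SepJ3
import Cfsg.Agent.S2067

/-!
# `J₃`: two characters of degree divisible by `p`
-/

set_option autoImplicit false

open Cfsg Subgroup

namespace Cfsg.Agent.H651.Two.J3

open Cfsg.Agent.H653.Sieve Cfsg.Agent.Characters.Core Cfsg.Agent.H596.OneFacts

universe u

variable {F : Type} [Field F] [Fintype F] {ω : F}

theorem iso (hF : Fintype.card F = 4) (hω : ω ^ 2 + ω + 1 = 0) : Cfsg.Spor.IsoJ3 (Cfsg.Spor.J3 F ω) :=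
  ⟨F, inferInstance, inferInstance, ω, hF, hω, ⟨MulEquiv.refl _⟩⟩

theorem card' (hF : Fintype.card F = 4) (hω : ω ^ 2 + ω + 1 = 0) : Nat.card (Cfsg.Spor.J3 F ω) = 50232960 :=
  (H898.J3Cent.base (iso hF hω)).2.1

theorem has [Finite (Cfsg.Spor.J3 F ω)] (hF : Fintype.card F = 4) (hω : ω ^ 2 + ω + 1 = 0) :
    ∀ d ∈ cd, d.Has (Cfsg.Spor.J3 F ω) := by
  have h := iso hF hω
  intro d hd
  simp only [cd, List.mem_cons, List.not_mem_nil, or_false] at hd
  rcases hd with rfl | rfl | rfl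
  · exact has_of_sub (by norm_num) (by rw [card' hF hω]; norm_num) fun R hR => (H305.SepJ3.cn19 h hR).1
  · exact has_of_sub (by norm_num) (by rw [card' hF hω]; norm_num) fun R hR => (H305.SepJ3.cn17 h hR).1
  · obtain ⟨y, hy, hc⟩ := H724.IMJThree.exists_five h
    exact has_of (by norm_num) hy hc

theorem two (hF : Fintype.card F = 4) (hω : ω ^ 2 + ω + 1 = 0) {p : ℕ} (hp : p.Prime)
    (hd : p ∣ Nat.card (Cfsg.Spor.J3 F ω)) : Two p (Cfsg.Spor.J3 F ω) := by
  have h := iso hF hω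
  have hc := card' hF hω
  have hfin : Finite (Cfsg.Spor.J3 F ω) := Nat.finite_of_card_ne_zero (by rw [hc]; norm_num)
  have hs : IsSimpleGroup (Cfsg.Spor.J3 F ω) := (H898.J3Cent.base h).1
  have hG : ¬ IsMulCommutative (Cfsg.Spor.J3 F ω) := by
    intro hcm
    obtain ⟨y, hy, hy'⟩ := H724.IMJThree.exists_five h
    have h1 : centralizer ({y} : Set (Cfsg.Spor.J3 F ω)) = ⊤ := by
      rw [eq_top_iff]
      intro z _
      rw [mem_centralizer_singleton_iff]
      exact hcm.is_comm.comm z y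
    rw [h1, card_top, hc] at hy'
    exact absurd hy' (by norm_num)
  have hM : Nat.card (Out (Cfsg.Spor.J3 F ω)) ≤ 2 := (Cfsg.Agent.S2067.result hF ω hω).le
  have h0 := prime_mem hp facs_prime facs_prod (hc ▸ hd)
  simp only [facs, List.map_cons, List.map_nil, List.mem_cons, List.not_mem_nil, or_false] at h0
  rcases h0 with rfl | rfl | rfl | rfl | rfl
  · exact two_19 hG hc hM (has hF hω)
  · exact two_17 hG hc hM (has hF hω)
  · have h5 := H653.Spor.J3.clauses h
    refine two_of_lcm (L := [10, 15, 85, 95]) (N := 50232960) (M := 9690) hc (by decide) (fun m hm => ?_)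
      (by decide) (by simp)
    have h6 : [m] ∈ ([[6], [10], [34], [38], [15], [51], [57], [85], [95], [323]] : List (List ℕ)) := by
      simp only [List.mem_cons, List.not_mem_nil, or_false] at hm
      rcases hm with rfl | rfl | rfl | rfl <;> simp
    obtain ⟨c, hc, χ, hχ⟩ := h5 _ h6
    rw [List.mem_singleton] at hc
    exact ⟨χ, hc ▸ hχ⟩
  · exact two_3 hG hc hM (has hF hω)
  · exact two_2 hG hc hM (has hF hω)

/-- **The row `J₃`.** -/
theorem two_j3 {S : Type u} [Group S] (h : Cfsg.Spor.IsoJ3 S) {p : ℕ} [hp : Fact p.Prime]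
    (hd : p ∣ Nat.card S) : TwoOr p S := by
  obtain ⟨F, _, _, ω, hF, hω, e⟩ := h
  exact twoOr_of e hd (two hF hω hp.out)

end Cfsg.Agent.H651.Two.J3
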