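import Cfsg.Agent.H651.Two.Row
import Cfsg.Agent.H651.Two.CountList
import Cfsg.Agent.H314.LyOrb.IMSevenC
import Cfsg.Agent.H314.LyOrb.Deg
import Cfsg.Agent.H215.CC.LyThirtySeven
import Cfsg.Agent.H256.Sep.RowLy
import Cfsg.Agent.S2076

/-!
# The Lyons group: two characters of degree divisible by `p`
-/

set_option autoImplicit false

namespace Cfsg.Agent.H651.Two.Ly

open Cfsg Subgroup Equiv Cfsg.Agent.H593.IMCyc Cfsg.Agent.SporRec.TwoAn Cfsg.Agent.TypeM.Two Cfsg.Agent.H33
  Cfsg.Agent.H724.IMTool Cfsg.Agent.H713 Cfsg.Agent.H713.Count Cfsg.Agent.H314.LyOrb.PermA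
  Cfsg.Agent.H710.Spor.Ly Cfsg.Agent.H314.LyOrb.IMSeven
open Cfsg.Agent.H653.Sieve Cfsg.Agent.Characters.Core Cfsg.Agent.H596.OneFacts

universe u

abbrev G : Type := Cfsg.Spor.Ly

theorem fin : Finite G := Cfsg.Agent.Ly.Setup.finite_ly

theorem card : Nat.card G = 51765179004000000 := Cfsg.Agent.Ly.Setup.card_ly

theorem deg (i : Fin 5) : ∃ χ : IrrCharacter G, charDegree (χ : G → ℂ) = Cfsg.Agent.H314.LyOrb.deg i := by
  obtain ⟨χ, -, h⟩ := Cfsg.Agent.H314.LyOrb.exists_deg_ly
  exact ⟨χ i, h i⟩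

/-- Five classes of elements of order 31. -/
theorem LL31 : LL G 31 5 := by
  have hfin := fin
  have h31 : Fact (Nat.Prime 31) := ⟨by norm_num⟩
  obtain ⟨x, hx⟩ := exists_prime_orderOf_dvd_card' (G := G) 31 (by rw [card]; norm_num)
  have hR : Nat.card (zpowers x) = 31 := by rw [Nat.card_zpowers, hx]
  obtain ⟨h1, h2⟩ := Cfsg.Agent.H256.Sep.RowLy.data31 hR
  rw [cent_zpowers] at h1
  have h3 := fus_card_of (r := 31) hx (c := 31) (e := 6) h1 (by rw [h2])
  exact exists_powers hx h3.le (by norm_num) (by norm_num)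

/-- the number of classes used -/
def cnt (n : ℕ) : ℕ := if n = 31 then 5 else if n = 6 then 3 else if n ∈ [8, 10, 12, 22, 24, 30] then 2 else 1

theorem lists (n : ℕ) (hn : n ∈ ({1, 2, 3, 4, 5, 7, 9, 11, 14, 15, 18, 20, 21, 25, 28, 31, 33, 37, 40, 42, 67, 6, 8, 10,
    12, 22, 24, 30} : Finset ℕ)) : LL G n (cnt n) := by
  have hfin := fin
  obtain ⟨L⟩ := Cfsg.Agent.TypeM.FactsLy.exists_mt_ly
  have hex : n ∈ ({1, 3, 5, 7, 9, 11, 15, 21, 2, 6, 10, 14, 18, 22, 30, 42,
    4, 8, 12, 20, 24, 28, 40} : Finset ℕ) → LL G n 1 := fun h => LL.one (exists_orders L n h)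
  have hpr : ∀ q : ℕ, q.Prime → q ∣ 51765179004000000 → LL G q 1 := by
    intro q hq hd
    have : Fact q.Prime := ⟨hq⟩
    exact LL.one (exists_prime_orderOf_dvd_card' q (by rw [card]; exact hd))
  simp only [Finset.mem_insert, Finset.mem_singleton] at hn
  rcases hn with rfl | rfl | rfl | rfl | rfl | rfl | rfl | rfl | rfl | rfl | rfl | rfl | rfl | rfl | rfl | rfl |
    rfl | rfl | rfl | rfl | rfl | rfl | rfl | rfl | rfl | rfl | rfl | rfl
  · exact hex (by decide)
  · exact hex (by decide)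
  · exact hex (by decide)
  · exact hex (by decide)
  · exact hex (by decide)
  · exact hex (by decide)
  · exact hex (by decide)
  · exact hex (by decide)
  · exact hex (by decide)
  · exact hex (by decide)
  · exact hex (by decide)
  · exact hex (by decide)
  · exact hex (by decide)
  · exact LL.one Cfsg.Agent.H314.LyOrb.Ord25.exists25
  · exact hex (by decide)
  · exact LL31
  · exact LL.one exists33
  · exact hpr 37 (by norm_num) (by norm_num)
  · exact hex (by decide)
  · exact hex (by decide)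
  · exact hpr 67 (by norm_num) (by norm_num)
  · exact LL6 L
  · exact LL8 L
  · exact LL10 L
  · exact LL12 L
  · exact LL22 L
  · exact LL24 L
  · exact LL30 L

theorem three_seven : 3 ≤ ND 7 G := by
  have hfin := fin
  have h7 : Fact (Nat.Prime 7) := ⟨by norm_num⟩
  obtain ⟨L⟩ := Cfsg.Agent.TypeM.FactsLy.exists_mt_ly
  obtain ⟨y, hy, ho, -, -⟩ := odd_orders L.K (σ := t7) (n := 7) (Perm.mem_alternatingGroup.2 sgn.2.2.1) (by decide) o7
  have hy7 : y ^ 7 = 1 := by rw [← ho]; exact pow_orderOf_eq_one y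
  have hx : orderOf (y : Spor.Ly) = 7 := by rw [Subgroup.orderOf_coe, ho]
  have hx7 : (y : Spor.Ly) ^ 7 = 1 := by rw [← hx]; exact pow_orderOf_eq_one _
  have h6 := fus_six hx7 (three_fus L hy hy7)
  have hc : Nat.card (centralizer ({(y : Spor.Ly)} : Set Spor.Ly)) = 168 := by
    have h1 := Cfsg.Agent.H314.LyOrb.card_normalizer_seven hx
    rw [card_normalizer_zpowers hx, h6] at h1
    omega
  have h := regular_le_lists (G := G) (p := 7) Cfsg.Agent.H314.LyOrb.fac7 hx (e := 6) (m := 5) h6.le (numCls_le_five L hy hy7 hc)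
    {1, 2, 3, 4, 5, 9, 11, 15, 18, 20, 25, 31, 33, 37, 40, 67, 6, 8, 10, 12, 22, 24, 30} cnt
    fun n hn => ⟨by
      revert n
      decide, lists n (by
      revert n
      decide)⟩
  have h2 : ∑ n ∈ ({1, 2, 3, 4, 5, 9, 11, 15, 18, 20, 25, 31, 33, 37, 40, 67, 6, 8, 10, 12, 22, 24, 30} :
    Finset ℕ), cnt n = 35 := by decide
  omega

theorem three_37 (hK : Cfsg.Agent.H995.CopEngine.AllKnown.{0}) : 3 ≤ ND 37 G := by
  have hfin := fin
  have h37 : Fact (Nat.Prime 37) := ⟨by norm_num⟩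
  obtain ⟨x, hx⟩ := exists_prime_orderOf_dvd_card' (G := G) 37 (by rw [card]; norm_num)
  have hc := Cfsg.Agent.H215.CC.LyThirtySeven.card_centralizer hK (G := G) ⟨MulEquiv.refl _⟩ hx
  have h := self_le (G := G) (p := 37) (by
      rw [card, show 51765179004000000 = 37 ^ 1 * 1399058892000000 by norm_num]
      rw [Nat.factorization_mul (by norm_num) (by norm_num), Nat.Prime.factorization_pow (by norm_num),
        Finsupp.add_apply, Finsupp.single_eq_same, Nat.factorization_eq_zero_of_not_dvd (by norm_num)]) hx hc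
    (e := 36) (fus_le hx)
    {1, 2, 3, 4, 5, 7, 9, 11, 14, 15, 18, 20, 21, 25, 28, 31, 33, 40, 42, 67, 6, 8, 10, 12, 22, 24, 30} cnt
    fun n hn => ⟨by
      revert n
      decide, lists n (by
      revert n
      decide)⟩
  have h2 : ∑ n ∈ ({1, 2, 3, 4, 5, 7, 9, 11, 14, 15, 18, 20, 21, 25, 28, 31, 33, 40, 42, 67, 6, 8, 10, 12, 22, 24,
    30} : Finset ℕ), cnt n = 39 := by decide
  omega

theorem out_le : Nat.card (Out G) ≤ 2 := Cfsg.Agent.S2076.result.le.trans (by norm_num)

/-- **The row `Ly`.** -/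
theorem two_ly (hK : Cfsg.Agent.H995.CopEngine.AllKnown.{0}) {S : Type u} [Group S] (h : Cfsg.Spor.IsoLy S) {p : ℕ}
    [hp : Fact p.Prime] (hd : p ∣ Nat.card S) : TwoOr p S := by
  have hfin := fin
  refine twoOr_of h hd fun hd => ?_
  have h0 := prime_mem hp.out (L := [(2, 8), (3, 7), (5, 6), (7, 1), (11, 1), (31, 1), (37, 1), (67, 1)]) (by norm_num)
    (N := 51765179004000000) (by decide +kernel) (card ▸ hd)
  simp only [List.map_cons, List.map_nil, List.mem_cons, List.not_mem_nil, or_false] at h0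
  rcases h0 with rfl | rfl | rfl | rfl | rfl | rfl | rfl | rfl
  · exact two_of_degs (deg 1) (deg 2) (by decide) (by decide) (by decide)
  · exact two_of_degs (deg 2) (deg 3) (by decide) (by decide) (by decide)
  · exact two_of_degs (deg 2) (deg 4) (by decide) (by decide) (by decide)
  · exact two_of_three out_le three_seven
  · exact two_of_degs (deg 1) (deg 2) (by decide) (by decide) (by decide)
  · exact two_of_degs (deg 1) (deg 2) (by decide) (by decide) (by decide)
  · exact two_of_three out_le (three_37 hK)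
  · exact two_of_degs (deg 1) (deg 3) (by decide) (by decide) (by decide)

end Cfsg.Agent.H651.Two.Ly
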