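import Cfsg.Agent.H651.Two.J1
import Cfsg.Agent.H651.Two.J3
import Cfsg.Agent.H651.Two.J4
import Cfsg.Agent.H651.Two.Ly
import Cfsg.Agent.H651.Two.Co2
import Cfsg.Agent.H651.Two.Mathieu
import Cfsg.Agent.H174.Two.McL
import Cfsg.Agent.H805.Two.He
import Cfsg.Agent.H805.Two.Ru
import Cfsg.Agent.H299.Two.Suz
import Cfsg.Agent.H440.Two.ON
import Cfsg.Agent.H752.Two.CoOne
import Cfsg.Agent.H417.Two.Co3
import Cfsg.Agent.H566.Two.Fi22
import Cfsg.Agent.H892.Two.Fi23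
import Cfsg.Agent.H892.Two.Fi24
import Cfsg.Agent.H399.Two.HN
import Cfsg.Agent.H399.Two.Th
import Cfsg.Agent.H858.TwoJ2
import Cfsg.Agent.H858.TwoHS
import Cfsg.Agent.H560.TwoM
import Cfsg.Agent.H877.TwoB

/-!
# FactTwo: the sporadic groups
-/

set_option autoImplicit false

namespace Cfsg.Agent.H651.Two.Spor

open Cfsg Cfsg.Agent.H596.OneFacts

universe u

/-- **All the sporadic groups.** -/
theorem two_sporadic (hK : Cfsg.Agent.H995.CopEngine.AllKnown.{0}) {S : Type u} [Group S]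
    (h : Cfsg.IsSporadicGroup S) {p : ℕ} [hp : Fact p.Prime] (hd : p ∣ Nat.card S) :
    TwoOr p S := by
  rcases h with h | h | h | h | h | h | h | h | h | h | h | h | h | h | h | h | h | h | h | h | h | h | h | h | h | h
  · exact Mathieu.two_m11 h hd
  · exact Mathieu.two_m12 h hd
  · exact Mathieu.two_m22 h hd
  · exact Mathieu.two_m23 h hd
  · exact Mathieu.two_m24 h hd
  · exact J1.two_j1 h hd
  · exact Cfsg.Agent.H858.TwoJ2.two_j2 h hd
  · exact J3.two_j3 h hd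
  · exact J4.two_j4 h hd
  · exact Cfsg.Agent.H752.TwoCoOne.two_co1 h hd
  · exact Co2.two_co2 h hd
  · exact Cfsg.Agent.H417.Two.Co3.two_co3 h hd
  · exact Cfsg.Agent.H174.Two.McL.two_mcl h hd
  · exact Cfsg.Agent.H858.TwoHS.two_hs h hd
  · exact Cfsg.Agent.H299.Two.Suz.two_suz h hd
  · exact Cfsg.Agent.H805.Two.He.two_he h hd
  · exact Cfsg.Agent.H805.Two.Ru.two_ru h hd
  · exact Cfsg.Agent.H440.Two.ON.two_on h hd
  · exact Ly.two_ly hK h hd
  · exact Cfsg.Agent.H566.Two.two_fi22 h hd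
  · exact Cfsg.Agent.H892.Two.Fi23.two_fi23 h hd
  · exact Cfsg.Agent.H892.Two.Fi24.two_fi24 h hd
  · exact Cfsg.Agent.H399.Two.HN.two_hn h hd
  · exact Cfsg.Agent.H399.Two.Th.two_th h hd
  · exact Cfsg.Agent.H877.TwoB.two_b h hd
  · exact Cfsg.Agent.H560.TwoM.two_m h hd

end Cfsg.Agent.H651.Two.Spor
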