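import Cfsg.Agent.H651.Two.Base
import Cfsg.Agent.H653.Sieve.Col
import Cfsg.Agent.Characters.GaloisIrr

/-!
# The columns and the characters of degree divisible by `p`

* `IsCol.aut` : the column of a Sylow subgroup is constant on the orbits of `Aut G`;
* `sum_PD_int` : the sum of the values of the characters of degree divisible by `p` is an integer, the same at
  `x` and `x ^ k`;
* `IsCol.dvd_sum_PD` : `t` divides the sum of the column over these characters.
-/

set_option autoImplicit false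
set_option linter.unusedSectionVars false

open Cfsg Subgroup
open scoped ComplexConjugate Pointwise

namespace Cfsg.Agent.H651.Two

open Cfsg.Agent.H653.Sieve Cfsg.Agent.Characters.Core

universe u

variable {G : Type u} [Group G] [Finite G]

/-- The action of a field automorphism. -/
noncomputable def gperm (s : ℂ ≃+* ℂ) : IrrCharacter G ≃ IrrCharacter G where
  toFun χ := ⟨fun g => s ((χ : G → ℂ) g), Characters.GaloisIrr.isIrr_map s χ.2⟩
  invFun χ := ⟨fun g => s.symm ((χ : G → ℂ) g), Characters.GaloisIrr.isIrr_map s.symm χ.2⟩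
  left_inv _ := Subtype.ext (funext fun _ => s.symm_apply_apply _)
  right_inv _ := Subtype.ext (funext fun _ => s.apply_symm_apply _)

theorem gperm_apply (s : ℂ ≃+* ℂ) (χ : IrrCharacter G) (g : G) :
    (gperm s χ : G → ℂ) g = s ((χ : G → ℂ) g) := rfl

theorem deg_gperm (s : ℂ ≃+* ℂ) (χ : IrrCharacter G) :
    charDegree (gperm s χ : G → ℂ) = charDegree (χ : G → ℂ) := by
  have h1 := Blocks.Knorr.charDegree_eq χ.2
  have h2 := Blocks.Knorr.charDegree_eq (gperm s χ).2
  rw [gperm_apply, h1, map_natCast] at h2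
  exact_mod_cast h2.symm

theorem gperm_mem_iff (p : ℕ) (s : ℂ ≃+* ℂ) (χ : IrrCharacter G) : gperm s χ ∈ PD p G ↔ χ ∈ PD p G := by
  show p ∣ charDegree (gperm s χ : G → ℂ) ↔ p ∣ charDegree (χ : G → ℂ)
  rw [deg_gperm]

/-- The sum of the characters of degree divisible by `p`. -/
noncomputable def sumPD (p : ℕ) [Fintype (IrrCharacter G)] (g : G) : ℂ :=
  haveI := Classical.decPred fun χ : IrrCharacter G => χ ∈ PD p G
  ∑ χ : IrrCharacter G, if χ ∈ PD p G then (χ : G → ℂ) g else 0

variable [Fintype (IrrCharacter G)]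

theorem map_sumPD (p : ℕ) (s : ℂ ≃+* ℂ) (g : G) : s (sumPD p g) = sumPD p g := by
  classical
  unfold sumPD
  rw [map_sum]
  conv_rhs => rw [← Equiv.sum_comp (gperm s)]
  refine Finset.sum_congr rfl fun χ _ => ?_
  by_cases h : χ ∈ PD p G
  · rw [if_pos h, if_pos ((gperm_mem_iff p s χ).2 h), gperm_apply]
  · rw [if_neg h, if_neg (fun h1 => h ((gperm_mem_iff p s χ).1 h1)), map_zero]

theorem sumPD_int (p : ℕ) (g : G) : ∃ z : ℤ, sumPD p g = z := by
  classical
  have hint : IsIntegral ℤ (sumPD p g) := by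
    unfold sumPD
    refine IsIntegral.sum _ fun χ _ => ?_
    split_ifs
    · exact Characters.GaloisBasic.isIntegral_apply (isIrr_isCharacter χ.2) g
    · exact isIntegral_zero
  exact Characters.GaloisBasic.exists_int_of_isIntegral hint
    (Characters.GaloisBasic.exists_rat_of_forall_ringEquiv hint.tower_top fun s => map_sumPD p s g)

theorem sumPD_pow (p : ℕ) {k : ℕ} (hk : k.Coprime (Nat.card G)) (g : G) : sumPD p (g ^ k) = sumPD p g := by
  classical
  obtain ⟨s, hs⟩ := Characters.GaloisBasic.exists_ringEquiv_of_coprime (G := G) hk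
  rw [← map_sumPD p s g]
  unfold sumPD
  rw [map_sum]
  refine Finset.sum_congr rfl fun χ _ => ?_
  split_ifs
  · rw [hs _ (isIrr_isCharacter χ.2) g]
  · rw [map_zero]

/-- Two generators of a group of prime order. -/
theorem sumPD_gen (p : ℕ) {r : ℕ} (hr : r.Prime) {x y : G} (hx : orderOf x = r) (hy : orderOf y = r)
    (hxy : y ∈ zpowers x) : sumPD p y = sumPD p x := by
  obtain ⟨k, hk'⟩ : ∃ k : ℕ, x ^ k = y :=
    (Submonoid.mem_powers_iff _ _).1 (mem_powers_iff_mem_zpowers.2 hxy)
  have hkr : k.Coprime r := by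
    rw [Nat.coprime_comm, hr.coprime_iff_not_dvd]
    rintro ⟨j, rfl⟩
    rw [pow_mul, ← hx, pow_orderOf_eq_one, one_pow] at hk'
    rw [← hk', orderOf_one] at hy
    exact hr.one_lt.ne hy
  -- lift `k` to a unit modulo `|G|`
  have hrG : r ∣ Nat.card G := by rw [← hx]; exact orderOf_dvd_natCard x
  have : NeZero (Nat.card G) := ⟨Nat.card_pos.ne'⟩
  have : NeZero r := ⟨hr.ne_zero⟩
  obtain ⟨u, hu⟩ := ZMod.unitsMap_surjective hrG (ZMod.unitOfCoprime k hkr)
  have h1 : ((u : ZMod (Nat.card G)).val : ZMod r) = (k : ZMod r) := by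
    have h2 := congrArg (fun v : (ZMod r)ˣ => (v : ZMod r)) hu
    simp only [ZMod.unitsMap_def, Units.coe_map, ZMod.coe_unitOfCoprime] at h2
    rw [← h2]
    simp [ZMod.natCast_val]
  have h3 : x ^ (u : ZMod (Nat.card G)).val = x ^ k := by
    rw [pow_eq_pow_iff_modEq, hx]
    exact (ZMod.natCast_eq_natCast_iff _ _ _).1 h1
  rw [← hk', ← h3]
  exact sumPD_pow p (ZMod.val_coe_unit_coprime u) x

/-- **`t` divides the sum of the column over the characters of degree divisible by `p`.** -/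
theorem dvd_sum_PD (p : ℕ) {r : ℕ} [hr : Fact r.Prime] {P : Subgroup G} (hP : Nat.card P = r)
    {e t : ℕ} (he : e ≠ 0) (ht : e * t = r - 1) {W : IrrCharacter G → ℤ} (hW : IsCol P e W)
    [DecidablePred fun χ : IrrCharacter G => χ ∈ PD p G] :
    ∀ x ∈ P, x ≠ 1 → ((∑ χ : IrrCharacter G, if χ ∈ PD p G then W χ else 0 : ℤ) : ℂ) = t * sumPD p x := by
  intro x hx hx1
  have hPf := Fintype.ofFinite P
  classical
  have hord : ∀ y ∈ P, y ≠ 1 → orderOf y = r := by
    intro y hy hy1
    have h1 : orderOf (⟨y, hy⟩ : P) ∣ Nat.card P := orderOf_dvd_natCard _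
    rw [hP, Subgroup.orderOf_mk] at h1
    rcases (Nat.dvd_prime hr.out).1 h1 with h | h
    · exact absurd (orderOf_eq_one_iff.1 h) hy1
    · exact h
  have hxo := hord x hx hx1
  have hPx : P = zpowers x := by
    symm
    apply Subgroup.eq_of_le_of_card_ge (zpowers_le.2 hx)
    rw [Nat.card_zpowers, hxo, hP]
  have key : ∀ y ∈ P, y ≠ 1 → sumPD p y = sumPD p x := by
    intro y hy hy1
    refine sumPD_gen p hr.out hxo (hord y hy hy1) ?_
    rw [← hPx]
    exact hy
  have h1 : (e : ℂ) * ((∑ χ : IrrCharacter G, if χ ∈ PD p G then W χ else 0 : ℤ) : ℂ) =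
      ∑ y ∈ (Finset.univ : Finset P).erase 1, sumPD p ((y : P) : G) := by
    unfold sumPD
    rw [Finset.sum_comm]
    push_cast
    rw [Finset.mul_sum]
    refine Finset.sum_congr rfl fun χ _ => ?_
    by_cases h : χ ∈ PD p G
    · simp only [if_pos h]
      rw [hW χ, csum_eq_erase]
    · simp only [if_neg h]
      simp
  have h2 : ∑ y ∈ (Finset.univ : Finset P).erase 1, sumPD p ((y : P) : G) =
      ((r - 1 : ℕ) : ℂ) * sumPD p x := by
    rw [Finset.sum_congr rfl fun (y : P) hy => key (y : G) y.2 fun h => (Finset.mem_erase.1 hy).1 (Subtype.ext h),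
      Finset.sum_const, nsmul_eq_mul, Finset.card_erase_of_mem (Finset.mem_univ _), Finset.card_univ,
      ← Nat.card_eq_fintype_card, hP]
  have he' : (e : ℂ) ≠ 0 := by exact_mod_cast he
  apply mul_left_cancel₀ he'
  rw [h1, h2, ← ht]
  push_cast
  ring

/-- **The column of a Sylow subgroup is constant on `Aut G`-orbits.** -/
theorem col_aut {r : ℕ} [hr : Fact r.Prime] (P : Sylow r G) {e : ℕ} (he : e ≠ 0) {W : IrrCharacter G → ℤ}
    (hW : IsCol (P : Subgroup G) e W) (σ : MulAut G) (χ ψ : IrrCharacter G)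
    (h : ∀ s : G, (χ : G → ℂ) (σ s) = (ψ : G → ℂ) s) : W χ = W ψ := by
  classical
  have hPf := Fintype.ofFinite (P : Subgroup G)
  obtain ⟨g, hg⟩ := MulAction.exists_smul_eq G P (σ • P)
  -- `τ = conj(g)⁻¹ σ` normalizes `P`
  set τ : MulAut G := (MulAut.conj g)⁻¹ * σ with hτ
  have hτP : τ • (P : Subgroup G) = P := by
    have h1 : ((g • P : Sylow r G) : Subgroup G) = ((σ • P : Sylow r G) : Subgroup G) := congrArg _ hg
    have h2 : ((g • P : Sylow r G) : Subgroup G) = MulAut.conj g • (P : Subgroup G) := rfl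
    have h3 : ((σ • P : Sylow r G) : Subgroup G) = σ • (P : Subgroup G) := rfl
    rw [hτ, mul_smul, ← h3, ← h1, h2, inv_smul_smul]
  have hmem : ∀ x ∈ (P : Subgroup G), τ x ∈ (P : Subgroup G) := by
    intro x hx
    rw [← hτP]
    exact Subgroup.smul_mem_pointwise_smul x τ _ hx
  have hval : ∀ x : G, (ψ : G → ℂ) x = (χ : G → ℂ) (τ x) := by
    intro x
    rw [← h x]
    have h1 : σ x = g * τ x * g⁻¹ := by
      rw [hτ, MulAut.mul_apply]
      have : (MulAut.conj g)⁻¹ (σ x) = g⁻¹ * σ x * g := by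
        rw [← map_inv, MulAut.conj_apply, inv_inv]
      rw [this]; group
    rw [h1, inner_apply]
  let f : ↥(P : Subgroup G) → ↥(P : Subgroup G) := fun x => ⟨τ x, hmem x x.2⟩
  have hf : Function.Bijective f := by
    rw [Fintype.bijective_iff_injective_and_card]
    refine ⟨fun x y hxy => ?_, rfl⟩
    exact Subtype.ext (τ.injective (congrArg Subtype.val hxy))
  have hsum : ∑ x : ↥(P : Subgroup G), (ψ : G → ℂ) x = ∑ x : ↥(P : Subgroup G), (χ : G → ℂ) x := by
    rw [← (Equiv.ofBijective f hf).sum_comp (fun x : ↥(P : Subgroup G) => (χ : G → ℂ) x)]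
    exact Finset.sum_congr rfl fun x _ => hval x
  have h1 : (ψ : G → ℂ) 1 = (χ : G → ℂ) 1 := by rw [← h 1, map_one]
  have he' : (e : ℂ) ≠ 0 := by exact_mod_cast he
  have h2 : (e : ℂ) * W χ = (e : ℂ) * W ψ := by
    rw [hW χ, hW ψ, csum_eq, csum_eq, hsum, h1]
  exact_mod_cast mul_left_cancel₀ he' h2

end Cfsg.Agent.H651.Two
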