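import Cfsg.Agent.H651.Two.J1Cert
import Cfsg.Agent.H305.SepJ1
import Cfsg.Agent.S2065

/-!
# `J₁`: two characters of degree divisible by `p`
-/

set_option autoImplicit false

open Cfsg Subgroup

namespace Cfsg.Agent.H651.Two.J1

open Cfsg.Agent.H653.Sieve Cfsg.Agent.Characters.Core Cfsg.Agent.H596.OneFacts
open Cfsg.Agent.H305.SepJ1 (fin simple card local' na cn7 cn11 cn19 cn5)

universe u

theorem card' : Nat.card Spor.J1 = 175560 := card

theorem has : ∀ d ∈ cd, d.Has Spor.J1 := by
  have := fin
  intro d hd
  simp only [cd, List.mem_cons, List.not_mem_nil, or_false] at hd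
  rcases hd with rfl | rfl | rfl | rfl | rfl
  · exact has_of_sub (by norm_num) (by rw [card']; norm_num) fun R hR => (cn19 hR).1
  · exact has_of_sub (by norm_num) (by rw [card']; norm_num) fun R hR => (cn11 hR).1
  · exact has_of_sub (by norm_num) (by rw [card']; norm_num) fun R hR => (cn7 hR).1
  · exact has_of_forall (by norm_num) (by rw [card']; norm_num) fun x hx => local'.cent3 x hx
  · exact has_of_sub (by norm_num) (by rw [card']; norm_num) fun R hR => (cn5 hR).1

theorem two (p : ℕ) (hp : p.Prime) (hd : p ∣ Nat.card Spor.J1) : Two p Spor.J1 := by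
  have := fin
  have := simple
  have hG : ¬ IsMulCommutative Spor.J1 := fun h => na fun a b => h.is_comm.comm a b
  have hM : Nat.card (Out Spor.J1) ≤ 1 := Cfsg.Agent.S2065.result.le
  have h := prime_mem hp facs_prime facs_prod (card' ▸ hd)
  simp only [facs, List.map_cons, List.map_nil, List.mem_cons, List.not_mem_nil, or_false] at h
  rcases h with rfl | rfl | rfl | rfl | rfl | rfl
  · exact two_19 hG card' hM has
  · exact two_11 hG card' hM has
  · exact two_7 hG card' hM has
  · exact two_5 hG card' hM has
  · exact two_3 hG card' hM has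
  · exact two_2 hG card' hM has

/-- **The row `J₁`.** -/
theorem two_j1 {S : Type u} [Group S] (h : Cfsg.Spor.IsoJ1 S) {p : ℕ} [hp : Fact p.Prime]
    (hd : p ∣ Nat.card S) : TwoOr p S := twoOr_of h hd (two p hp.out)

end Cfsg.Agent.H651.Two.J1
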