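import Cfsg.Agent.H651.Two.Row

set_option autoImplicit false
set_option maxRecDepth 100000

open Cfsg Subgroup

namespace Cfsg.Agent.H651.Two.J1

open Cfsg.Agent.H653.Sieve Cfsg.Agent.Characters.Core Cfsg.Agent.H596.OneFacts

universe u

variable {G : Type u} [Group G] [Finite G] [IsSimpleGroup G]

/-- The columns. -/
def cd : List CD :=
  [⟨19, 1, 6, 3, [(0, 0), (1, 3), (6, -1), (13, 1), (18, -3)], 3, true⟩,
    ⟨11, 1, 10, 1, [(0, 0), (1, 1), (10, -1)], 0, false⟩,
    ⟨7, 1, 6, 1, [(0, 0), (1, 1), (6, -1)], 0, false⟩,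
    ⟨3, 10, 2, 1, [(0, 0), (1, -2), (1, 1), (1, 4), (2, -4), (2, -1), (2, 2)], 0, false⟩,
    ⟨5, 6, 2, 2, [(0, 0), (1, 2), (2, -1), (2, 4), (3, -4), (3, 1), (4, -2)], 0, false⟩]

def pr : List ((ℕ → Bool) × ℕ) := []

theorem ok : (cd.all (CD.ok 175560)) = true := by decide +kernel

theorem nd : (cd.map CD.r).Nodup := by decide

def facs : List (ℕ × ℕ) := [(19, 1), (11, 1), (7, 1), (5, 1), (3, 1), (2, 3)]

theorem facs_prime : (facs.all fun pa => Nat.Prime pa.1) = true := by norm_num [facs]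

theorem facs_prod : facProd facs = 175560 := by decide +kernel

/-! ### `p = 2` -/

def c2 : List Cert :=
  [⟨0, [⟨67, -557, -7729, [-7729, 7729, 980, 3796]⟩, ⟨54, 9009, 0, [7729, 5079, 3864]⟩, ⟨-116, -10000, 0, [5000, 5000]⟩, ⟨-38, 0, 0, [0]⟩, ⟨-73, -1932, 0, []⟩], [], -189232⟩]

theorem h1_2 : (c2.all (headOK 175560 (cd.map CD.par) pr)) = true := by decide +kernel

theorem h2_2 : allDiv 175560 (scenD 175560 2 1 (cd.map CD.par) pr []
    (cd.map CD.t) (fun _ _ _ => true) c2) facs 1 = true := by decide +kernel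

theorem two_2 (hG : ¬ IsMulCommutative G) (hN : Nat.card G = 175560) (hM : Nat.card (Out G) ≤ 1)
    (hx : ∀ d ∈ cd, d.Has G) : Two 2 G := by
  have : Fact (Nat.Prime 2) := ⟨by norm_num⟩
  exact two_of_data hG 175560 1 hN hM facs facs_prime facs_prod cd ok nd hx pr
    (by intro P hP; exact absurd hP List.not_mem_nil) [] (by intro P hP; exact absurd hP List.not_mem_nil) c2 h1_2 (by decide) h2_2

/-! ### `p = 3` -/

def c3 : List Cert :=
  [⟨0, [⟨33, -851, -9894, [-4869, 9894, 955, 556]⟩, ⟨89, -9894, 0, [8315, 4947, 4947]⟩, ⟨-1279, -10000, 0, [5763, 5000]⟩, ⟨-37, 0, 0, [0]⟩, ⟨-32, 252, 0, []⟩], [], -274361⟩]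

theorem h1_3 : (c3.all (headOK 175560 (cd.map CD.par) pr)) = true := by decide +kernel

theorem h2_3 : allDiv 175560 (scenD 175560 3 1 (cd.map CD.par) pr []
    (cd.map CD.t) (fun _ _ _ => true) c3) facs 1 = true := by decide +kernel

theorem two_3 (hG : ¬ IsMulCommutative G) (hN : Nat.card G = 175560) (hM : Nat.card (Out G) ≤ 1)
    (hx : ∀ d ∈ cd, d.Has G) : Two 3 G := by
  have : Fact (Nat.Prime 3) := ⟨by norm_num⟩
  exact two_of_data hG 175560 1 hN hM facs facs_prime facs_prod cd ok nd hx pr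
    (by intro P hP; exact absurd hP List.not_mem_nil) [] (by intro P hP; exact absurd hP List.not_mem_nil) c3 h1_3 (by decide) h2_3

/-! ### `p = 5` -/

def c5 : List Cert :=
  [⟨0, [⟨30, -1053, -9894, [-665, 3604, 955, -888]⟩, ⟨89, -9894, 0, [8315, 4947, 4947]⟩, ⟨-1205, -10000, 0, [5763, 5000]⟩, ⟨-37, 0, 0, [0]⟩, ⟨-11, 1167, 0, []⟩], [], -218002⟩]

theorem h1_5 : (c5.all (headOK 175560 (cd.map CD.par) pr)) = true := by decide +kernel

theorem h2_5 : allDiv 175560 (scenD 175560 5 1 (cd.map CD.par) pr []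
    (cd.map CD.t) (fun _ _ _ => true) c5) facs 1 = true := by decide +kernel

theorem two_5 (hG : ¬ IsMulCommutative G) (hN : Nat.card G = 175560) (hM : Nat.card (Out G) ≤ 1)
    (hx : ∀ d ∈ cd, d.Has G) : Two 5 G := by
  have : Fact (Nat.Prime 5) := ⟨by norm_num⟩
  exact two_of_data hG 175560 1 hN hM facs facs_prime facs_prod cd ok nd hx pr
    (by intro P hP; exact absurd hP List.not_mem_nil) [] (by intro P hP; exact absurd hP List.not_mem_nil) c5 h1_5 (by decide) h2_5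

/-! ### `p = 7` -/

def c7 : List Cert :=
  [⟨0, [⟨-1, -83, -192, [10000, 189, 403, -94]⟩, ⟨3, -305, 0, [305, -170, 170]⟩, ⟨-66, -436, 0, [202, 223]⟩, ⟨-2, -101, 0, [-101]⟩, ⟨2, -139, 0, []⟩], [], -53008⟩]

theorem h1_7 : (c7.all (headOK 175560 (cd.map CD.par) pr)) = true := by decide +kernel

theorem h2_7 : allDiv 175560 (scenD 175560 7 1 (cd.map CD.par) pr []
    (cd.map CD.t) (fun _ _ _ => true) c7) facs 1 = true := by decide +kernel

theorem two_7 (hG : ¬ IsMulCommutative G) (hN : Nat.card G = 175560) (hM : Nat.card (Out G) ≤ 1)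
    (hx : ∀ d ∈ cd, d.Has G) : Two 7 G := by
  have : Fact (Nat.Prime 7) := ⟨by norm_num⟩
  exact two_of_data hG 175560 1 hN hM facs facs_prime facs_prod cd ok nd hx pr
    (by intro P hP; exact absurd hP List.not_mem_nil) [] (by intro P hP; exact absurd hP List.not_mem_nil) c7 h1_7 (by decide) h2_7

/-! ### `p = 11` -/

def c11 : List Cert :=
  [⟨0, [⟨-18, -272, -784, [543, 784, -190, 190]⟩, ⟨99, -1421, 0, [1134, 587, -437]⟩, ⟨141, -1134, 0, [-1860, -10000]⟩, ⟨-6, 0, 0, [-416]⟩, ⟨6, -296, 0, []⟩], [], -35896⟩,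
   ⟨2, [⟨-83, -1913, -5515, [3822, 5515, 1337, -9264]⟩, ⟨-52, -10000, 0, [3826, 3446, -9419]⟩, ⟨-92, -7977, 0, [3988, 3988]⟩, ⟨-41, 937, 0, [2927]⟩, ⟨-39, -2083, 0, []⟩], [], 23234⟩]

theorem h1_11 : (c11.all (headOK 175560 (cd.map CD.par) pr)) = true := by decide +kernel

theorem h2_11 : allDiv 175560 (scenD 175560 11 1 (cd.map CD.par) pr []
    (cd.map CD.t) (fun _ _ _ => true) c11) facs 1 = true := by decide +kernel

theorem two_11 (hG : ¬ IsMulCommutative G) (hN : Nat.card G = 175560) (hM : Nat.card (Out G) ≤ 1)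
    (hx : ∀ d ∈ cd, d.Has G) : Two 11 G := by
  have : Fact (Nat.Prime 11) := ⟨by norm_num⟩
  exact two_of_data hG 175560 1 hN hM facs facs_prime facs_prod cd ok nd hx pr
    (by intro P hP; exact absurd hP List.not_mem_nil) [] (by intro P hP; exact absurd hP List.not_mem_nil) c11 h1_11 (by decide) h2_11

/-! ### `p = 19` -/

def c19 : List Cert :=
  [⟨0, [⟨10, -137, -395, [282, 255, 98, 98]⟩, ⟨-7, -816, 0, [-10000, 285, 3296]⟩, ⟨-54, -716, 0, [589, -484]⟩, ⟨-4, 0, 0, [0]⟩, ⟨2, -147, 0, []⟩], [], -27409⟩]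

theorem h1_19 : (c19.all (headOK 175560 (cd.map CD.par) pr)) = true := by decide +kernel

theorem h2_19 : allDiv 175560 (scenD 175560 19 1 (cd.map CD.par) pr []
    (cd.map CD.t) (fun _ _ _ => true) c19) facs 1 = true := by decide +kernel

theorem two_19 (hG : ¬ IsMulCommutative G) (hN : Nat.card G = 175560) (hM : Nat.card (Out G) ≤ 1)
    (hx : ∀ d ∈ cd, d.Has G) : Two 19 G := by
  have : Fact (Nat.Prime 19) := ⟨by norm_num⟩
  exact two_of_data hG 175560 1 hN hM facs facs_prime facs_prod cd ok nd hx pr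
    (by intro P hP; exact absurd hP List.not_mem_nil) [] (by intro P hP; exact absurd hP List.not_mem_nil) c19 h1_19 (by decide) h2_19

end Cfsg.Agent.H651.Two.J1
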