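import Cfsg.Agent.H651.Two.Row

set_option autoImplicit false
set_option maxRecDepth 100000

open Cfsg Subgroup

namespace Cfsg.Agent.H651.Two.J3

open Cfsg.Agent.H653.Sieve Cfsg.Agent.Characters.Core Cfsg.Agent.H596.OneFacts

universe u

variable {G : Type u} [Group G] [Finite G] [IsSimpleGroup G]

/-- The columns. -/
def cd : List CD :=
  [⟨19, 1, 9, 2, [(0, 0), (1, 2), (9, -1), (10, 1), (18, -2)], 2, true⟩,
    ⟨17, 1, 8, 2, [(0, 0), (1, 2), (8, -1), (9, 1), (16, -2)], 2, true⟩,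
    ⟨5, 6, 2, 2, [(0, 0), (1, 2), (2, -1), (2, 4), (3, -4), (3, 1), (4, -2)], 0, false⟩]

def pr : List ((ℕ → Bool) × ℕ) := []

theorem ok : (cd.all (CD.ok 50232960)) = true := by decide +kernel

theorem nd : (cd.map CD.r).Nodup := by decide

def facs : List (ℕ × ℕ) := [(19, 1), (17, 1), (5, 1), (3, 5), (2, 7)]

theorem facs_prime : (facs.all fun pa => Nat.Prime pa.1) = true := by norm_num [facs]

theorem facs_prod : facProd facs = 50232960 := by decide +kernel

/-! ### `p = 2` -/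

def c2 : List Cert :=
  [⟨1, [⟨-282112, 7802636, -31782114, [-21810548, 20305739]⟩, ⟨443132, -34714646, -100000000, [-17357323]⟩, ⟨4740, 13778894, 0, []⟩], [], -142745953⟩,
   ⟨1, [⟨8079, -3227755, 3914512, [4425901, 4120538]⟩, ⟨-59856, -7044463, 100000000, [9782738]⟩, ⟨-2693, 2609674, 0, []⟩], [], 9918399⟩]

theorem h1_2 : (c2.all (headOK 50232960 (cd.map CD.par) pr)) = true := by decide +kernel

theorem h2_2 : allDiv 50232960 (scenD 50232960 2 2 (cd.map CD.par) pr []
    (cd.map CD.t) (fun _ _ _ => true) c2) facs 1 = true := by decide +kernel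

theorem two_2 (hG : ¬ IsMulCommutative G) (hN : Nat.card G = 50232960) (hM : Nat.card (Out G) ≤ 2)
    (hx : ∀ d ∈ cd, d.Has G) : Two 2 G := by
  have : Fact (Nat.Prime 2) := ⟨by norm_num⟩
  exact two_of_data hG 50232960 2 hN hM facs facs_prime facs_prod cd ok nd hx pr
    (by intro P hP; exact absurd hP List.not_mem_nil) [] (by intro P hP; exact absurd hP List.not_mem_nil) c2 h1_2 (by decide) h2_2

/-! ### `p = 3` -/

def c3 : List Cert :=
  [⟨0, [⟨0, 0, 0, [1, 1]⟩, ⟨0, 0, 0, [0]⟩, ⟨0, 0, 0, []⟩], [], -8⟩,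
   ⟨0, [⟨0, 0, 0, [-1, 1]⟩, ⟨0, 0, 0, [0]⟩, ⟨0, 0, 0, []⟩], [], 0⟩,
   ⟨1, [⟨11441, 972453, 0, [100000000, -75790862]⟩, ⟨26411, -15054045, 0, [26595479]⟩, ⟨13205, 17061251, 0, []⟩], [], 383784485⟩]

theorem h1_3 : (c3.all (headOK 50232960 (cd.map CD.par) pr)) = true := by decide +kernel

theorem h2_3 : allDiv 50232960 (scenD 50232960 3 2 (cd.map CD.par) pr []
    (cd.map CD.t) (fun _ _ _ => true) c3) facs 1 = true := by decide +kernel

theorem two_3 (hG : ¬ IsMulCommutative G) (hN : Nat.card G = 50232960) (hM : Nat.card (Out G) ≤ 2)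
    (hx : ∀ d ∈ cd, d.Has G) : Two 3 G := by
  have : Fact (Nat.Prime 3) := ⟨by norm_num⟩
  exact two_of_data hG 50232960 2 hN hM facs facs_prime facs_prod cd ok nd hx pr
    (by intro P hP; exact absurd hP List.not_mem_nil) [] (by intro P hP; exact absurd hP List.not_mem_nil) c3 h1_3 (by decide) h2_3

/-! ### `p = 17` -/

def c17 : List Cert :=
  [⟨-9, [⟨10827, -10317427, -74225814, [-8218150, 3602717]⟩, ⟨8866, 9237936, 100000000, [-10855029]⟩, ⟨7348, 302366, 0, []⟩], [], -395442435⟩,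
   ⟨4, [⟨22597, -8762254, -12358192, [-4637005, 1711422]⟩, ⟨11866, 8894284, 100000000, [-5302126]⟩, ⟨497, -4672717, 0, []⟩], [], 116296100⟩,
   ⟨1, [⟨0, 0, -1, [-1, 0]⟩, ⟨0, -1, 0, [0]⟩, ⟨0, 0, 0, []⟩], [], 50232931⟩]

theorem h1_17 : (c17.all (headOK 50232960 (cd.map CD.par) pr)) = true := by decide +kernel

theorem h2_17 : allDiv 50232960 (scenD 50232960 17 2 (cd.map CD.par) pr []
    (cd.map CD.t) (fun _ _ _ => true) c17) facs 1 = true := by decide +kernel

theorem two_17 (hG : ¬ IsMulCommutative G) (hN : Nat.card G = 50232960) (hM : Nat.card (Out G) ≤ 2)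
    (hx : ∀ d ∈ cd, d.Has G) : Two 17 G := by
  have : Fact (Nat.Prime 17) := ⟨by norm_num⟩
  exact two_of_data hG 50232960 2 hN hM facs facs_prime facs_prod cd ok nd hx pr
    (by intro P hP; exact absurd hP List.not_mem_nil) [] (by intro P hP; exact absurd hP List.not_mem_nil) c17 h1_17 (by decide) h2_17

/-! ### `p = 19` -/

def c19 : List Cert :=
  [⟨-12, [⟨8691, 16046106, 100000000, [-4116927, -2484344]⟩, ⟨-3150, -19977779, -176244, [-2455420]⟩, ⟨-16159, -77673, 0, []⟩], [], -425015450⟩,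
   ⟨-9, [⟨-1558, 23844823, 100000000, [-19287102, -2414752]⟩, ⟨34531, -37364, -5066510, [4996835]⟩, ⟨-696, -7151995, 0, []⟩], [], 213617213⟩,
   ⟨25, [⟨-102991, 100000000, 34023451, [72226834, 36024572]⟩, ⟨-83803, -32020332, -34023451, [39985890]⟩, ⟨238601, 4072482, 0, []⟩], [], 3330220209⟩,
   ⟨7, [⟨18902, 5245131, 1518438, [-16486572, -13334856]⟩, ⟨23427, -23664517, 100000000, [-10371316]⟩, ⟨-14026, 1891540, 0, []⟩], [], 289707143⟩]

theorem h1_19 : (c19.all (headOK 50232960 (cd.map CD.par) pr)) = true := by decide +kernel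

theorem h2_19 : allDiv 50232960 (scenD 50232960 19 2 (cd.map CD.par) pr []
    (cd.map CD.t) (fun _ _ _ => true) c19) facs 1 = true := by decide +kernel

theorem two_19 (hG : ¬ IsMulCommutative G) (hN : Nat.card G = 50232960) (hM : Nat.card (Out G) ≤ 2)
    (hx : ∀ d ∈ cd, d.Has G) : Two 19 G := by
  have : Fact (Nat.Prime 19) := ⟨by norm_num⟩
  exact two_of_data hG 50232960 2 hN hM facs facs_prime facs_prod cd ok nd hx pr
    (by intro P hP; exact absurd hP List.not_mem_nil) [] (by intro P hP; exact absurd hP List.not_mem_nil) c19 h1_19 (by decide) h2_19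

end Cfsg.Agent.H651.Two.J3
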