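import Cfsg.Agent.H651.Two.Row

set_option autoImplicit false
set_option maxRecDepth 100000

open Cfsg Subgroup

namespace Cfsg.Agent.H651.Two.J4

open Cfsg.Agent.H653.Sieve Cfsg.Agent.Characters.Core Cfsg.Agent.H596.OneFacts

universe u

variable {G : Type u} [Group G] [Finite G] [IsSimpleGroup G]

/-- The columns. -/
def cd : List CD :=
  [⟨29, 1, 28, 1, [(0, 0), (1, 1), (28, -1)], 0, false⟩,
    ⟨43, 1, 14, 3, [(0, 0), (1, 3), (14, -1), (29, 1), (42, -3)], 3, true⟩,
    ⟨23, 1, 22, 1, [(0, 0), (1, 1), (22, -1)], 0, false⟩,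
    ⟨37, 1, 12, 3, [(0, 0), (1, 3), (12, -1), (25, 1), (36, -3)], 3, true⟩,
    ⟨31, 1, 10, 3, [(0, 0), (1, 3), (10, -1), (21, 1), (30, -3)], 3, true⟩]

def pr : List ((ℕ → Bool) × ℕ) := []

theorem ok : (cd.all (CD.ok 86775571046077562880)) = true := by decide +kernel

theorem nd : (cd.map CD.r).Nodup := by decide

def facs : List (ℕ × ℕ) := [(43, 1), (37, 1), (31, 1), (29, 1), (23, 1), (11, 3), (7, 1), (5, 1), (3, 3), (2, 21)]

theorem facs_prime : (facs.all fun pa => Nat.Prime pa.1) = true := by norm_num [facs]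

theorem facs_prod : facProd facs = 86775571046077562880 := by decide +kernel

/-! ### `p = 11` -/

def c11 : List Cert :=
  [⟨0, [⟨0, 0, 0, [4987, 81, 0, 0]⟩, ⟨0, 0, 4987, [0, 10000, 1662]⟩, ⟨0, 0, 0, [0, 0]⟩, ⟨0, 0, 0, [0]⟩, ⟨0, 0, 0, []⟩], [], -105039⟩]

theorem h1_11 : (c11.all (headOK 86775571046077562880 (cd.map CD.par) pr)) = true := by decide +kernel

theorem h2_11 : allDiv 86775571046077562880 (scenD 86775571046077562880 11 1 (cd.map CD.par) pr []
    (cd.map CD.t) (fun _ _ _ => true) c11) facs 1 = true := by decide +kernel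

theorem two_11 (hG : ¬ IsMulCommutative G) (hN : Nat.card G = 86775571046077562880) (hM : Nat.card (Out G) ≤ 1)
    (hx : ∀ d ∈ cd, d.Has G) : Two 11 G := by
  have : Fact (Nat.Prime 11) := ⟨by norm_num⟩
  exact two_of_data hG 86775571046077562880 1 hN hM facs facs_prime facs_prod cd ok nd hx pr
    (by intro P hP; exact absurd hP List.not_mem_nil) [] (by intro P hP; exact absurd hP List.not_mem_nil) c11 h1_11 (by decide) h2_11

end Cfsg.Agent.H651.Two.J4
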